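import Mathlib

/-!
# Elements of order three acting on an elementary abelian 2-group (helper104)
-/

set_option autoImplicit false

namespace Cfsg.Agent.H104.EP

variable {G W : Type*} [Group G] [AddCommGroup W] [DistribMulAction G W]

theorem smul_ne_zero' {g : G} {x : W} (hx : x ≠ 0) : g • x ≠ 0 := by
  intro h0
  apply hx
  have h2 : g⁻¹ • g • x = 0 := by rw [h0, smul_zero]
  rwa [← mul_smul, inv_mul_cancel, one_smul] at h2

theorem smul_inj {g : G} {x y : W} (h : g • x = g • y) : x = y := by
  have h2 : g⁻¹ • g • x = g⁻¹ • g • y := by rw [h]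
  rwa [← mul_smul, ← mul_smul, inv_mul_cancel, one_smul, one_smul] at h2

/-- the trace of `x` -/
def T (x : G) (v : W) : W := v + x • v + x • x • v

theorem T_add (x : G) (v w : W) : T x (v + w) = T x v + T x w := by
  rw [T, T, T, smul_add, smul_add]
  abel

theorem smul_T {x : G} (h3 : ∀ v : W, x • x • x • v = v) (v : W) : x • T x v = T x v := by
  rw [T, smul_add, smul_add, h3]
  abel

theorem T_fix (h2 : ∀ v : W, v + v = 0) {x : G} {v : W} (h : x • v = v) : T x v = v := by
  rw [T, h, h, h2, zero_add]

/-- a small Klein argument -/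
theorem eq_zero_of_T (h2' : ∀ v : W, v + v = 0) {x y : G} (hc : x * y = y * x) (hy : ∀ v : W, y • y • y • v = v)
    {v : W} (h1 : T x v = 0) (h2 : T y v = 0) (h3 : T (x * y) v = 0) (h4 : T (x * (y * y)) v = 0)
    (h5 : T x (T y v) = 0) : v = 0 := by
  have c1 : ∀ v : W, y • x • v = x • y • v := fun v => by rw [← mul_smul, ← mul_smul, hc]
  have e3 : T (x * y) v = v + x • y • v + x • x • y • y • v := by
    rw [T, mul_smul, mul_smul, c1]
  have e4 : T (x * (y * y)) v = v + x • y • y • v + x • x • y • v := by
    rw [T, mul_smul, mul_smul, mul_smul, mul_smul, c1, c1, hy]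
  have e5 : T x (T y v) = (v + y • v + y • y • v) + (x • v + x • y • v + x • y • y • v) +
      (x • x • v + x • x • y • v + x • x • y • y • v) := by
    rw [T, T]
    simp only [smul_add]
  rw [e3] at h3
  rw [e4] at h4
  rw [e5] at h5
  rw [T] at h1 h2
  rw [h2, zero_add] at h5
  have k6 : (v + x • v + x • x • v) + (v + x • y • v + x • x • y • y • v) + (v + x • y • y • v + x • x • y • v) = 0 := by
    rw [h1, h3, h4, add_zero, add_zero]
  have k7 : (v + x • v + x • x • v) + (v + x • y • v + x • x • y • y • v) + (v + x • y • y • v + x • x • y • v) =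
      (v + v) + v + ((x • v + x • y • v + x • y • y • v) + (x • x • v + x • x • y • v + x • x • y • y • v)) := by
    abel
  rw [k7, h5, h2', zero_add, add_zero] at k6
  exact k6

end Cfsg.Agent.H104.EP
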