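import Cfsg.Agent.H781.U42Act

/-!
# Subgroups of `O₆⁻(2)` (helper104): the action on the space, reducible subgroups

`V = F₂⁶` with the quadratic form `Q6` of minus type, `Γ` its isometry group.
-/

set_option autoImplicit false

namespace Cfsg.Agent.H104.EP

open Subgroup Cfsg Cfsg.Agent.H781.U42Num Cfsg.Agent.H781.U42Gam Cfsg.Agent.H845.AutUFour Matrix
open Cfsg.Agent.LieClassical.OmegaReindex Module

theorem smul_def (g : Γ) (v : V) : g • v = (g : GL I (ZMod 2)).1 *ᵥ v := rfl

theorem toV_a' (g : Γ) (n : ℕ) : toV (a g n) = g • toV n := toV_a g n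

/-- the polar form -/
def B : LinearMap.BilinForm (ZMod 2) V := QuadraticMap.polarBilin (quadMinus 2 (ZMod 2) 1 1)

theorem B_nondeg : B.Nondegenerate := quadMinus_nondegenerate Cfsg.Agent.LargeExtra.Cards.aniso

theorem B_eq (v w : V) : B v w = Q6 (v + w) - Q6 v - Q6 w := by
  rw [B, QuadraticMap.polarBilin_apply_apply, QuadraticMap.polar, coe_quadMinus]

theorem Q_smul (g : Γ) (v : V) : Q6 (g • v) = Q6 v := g.2 v 0

theorem B_smul (g : Γ) (v w : V) : B (g • v) (g • w) = B v w := by
  rw [B_eq, B_eq, ← smul_add, Q_smul, Q_smul, Q_smul]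

theorem Q_add (v w : V) : Q6 (v + w) = Q6 v + Q6 w + B v w := by
  rw [B_eq]
  ring

theorem B_comm (v w : V) : B v w = B w v := by
  rw [B_eq, B_eq, add_comm v w]
  ring

theorem two_self (x : ZMod 2) : x + x = 0 := CharTwo.add_self_eq_zero x

theorem add_self (v : V) : v + v = 0 := by
  funext i
  exact two_self _

theorem neg_eq (v : V) : -v = v := neg_eq_of_add_eq_zero_left (add_self v)

theorem sub_eq (v w : V) : v - w = v + w := by rw [sub_eq_add_neg, neg_eq]

theorem eq_of_add_eq_zero' {v w : V} (h : v + w = 0) : v = w := by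
  rw [← sub_eq] at h
  exact sub_eq_zero.1 h

theorem Q_zero : Q6 0 = 0 := by
  decide +kernel

theorem B_self (v : V) : B v v = 0 := by
  rw [B_eq, add_self, Q_zero, zero_sub, sub_eq_zero, eq_comm]
  have h := two_self (Q6 v)
  exact eq_neg_of_add_eq_zero_left h

theorem zmod_cases (x : ZMod 2) : x = 0 ∨ x = 1 := by
  revert x
  decide

theorem ne_zero_iff (x : ZMod 2) : x ≠ 0 ↔ x = 1 := by
  revert x
  decide

/-! ### numbers -/

theorem qf_ofV (v : V) : qf (ofV v) = true ↔ Q6 v = 1 := by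
  rw [qf_spec _ (ofV_lt v), toV_ofV]

theorem qf_ofV_false (v : V) : qf (ofV v) = false ↔ Q6 v = 0 := by
  rw [← Bool.not_eq_true, qf_ofV]
  rcases zmod_cases (Q6 v) with h | h <;> simp [h]

theorem bxor_iff (a b : Bool) (x y : ZMod 2) (h1 : a = true ↔ x = 1) (h2 : b = true ↔ y = 1) :
    Bool.xor a b = true ↔ x + y = 1 := by
  revert a b x y
  decide

theorem pol_ofV (v w : V) : pol (ofV v) (ofV w) = true ↔ B v w = 1 := by
  have h1 : B v w = Q6 (v + w) + (Q6 v + Q6 w) := by
    rw [B_eq]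
    have h2 : ∀ x y z : ZMod 2, x - y - z = x + (y + z) := by decide
    exact h2 _ _ _
  rw [h1, pol, ← ofV_add]
  exact bxor_iff _ _ _ _ (qf_ofV _) (bxor_iff _ _ _ _ (qf_ofV _) (qf_ofV _))

theorem pol_ofV_false (v w : V) : pol (ofV v) (ofV w) = false ↔ B v w = 0 := by
  rw [← Bool.not_eq_true, pol_ofV]
  rcases zmod_cases (B v w) with h | h <;> simp [h]

theorem ofV_inj {v w : V} (h : ofV v = ofV w) : v = w := by
  rw [← toV_ofV v, h, toV_ofV]

theorem ofV_zero : ofV 0 = 0 := by decide +kernel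

theorem card_V : Nat.card V = 64 := by
  rw [Nat.card_eq_fintype_card]
  decide +kernel

/-- only the identity acts trivially -/
theorem eq_one_of_smul {g : Γ} (h : ∀ v : V, g • v = v) : g = 1 := by
  apply ext_basis
  intro m hm
  rw [a, a]
  congr 1
  have h1 : (g : GL I (ZMod 2)).1 *ᵥ toV m = toV m := h _
  rw [h1]
  exact (one_mulVec _).symm

/-! ### subspaces -/

/-- the invariant subspaces -/
def Inv (M : Subgroup Γ) (W : Submodule (ZMod 2) V) : Prop := ∀ g ∈ M, ∀ w ∈ W, g • w ∈ W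

/-- irreducible subgroups -/
def Irr (M : Subgroup Γ) : Prop := ∀ W : Submodule (ZMod 2) V, Inv M W → W = ⊥ ∨ W = ⊤

theorem Inv.inf {M : Subgroup Γ} {W W' : Submodule (ZMod 2) V} (h : Inv M W) (h' : Inv M W') : Inv M (W ⊓ W') :=
  fun g hg w hw => ⟨h g hg w hw.1, h' g hg w hw.2⟩

theorem mem_orth {W : Submodule (ZMod 2) V} {v : V} : v ∈ B.orthogonal W ↔ ∀ w ∈ W, B w v = 0 := Iff.rfl

theorem Inv.orth {M : Subgroup Γ} {W : Submodule (ZMod 2) V} (h : Inv M W) : Inv M (B.orthogonal W) := by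
  intro g hg v hv
  rw [mem_orth] at hv ⊢
  intro w hw
  have h1 := hv _ (h g⁻¹ (M.inv_mem hg) w hw)
  rw [← B_smul g, ← mul_smul, mul_inv_cancel, one_smul] at h1
  exact h1

theorem refl_B : B.IsRefl := fun v w h => by rw [B_comm]; exact h

theorem orth_orth (W : Submodule (ZMod 2) V) : B.orthogonal (B.orthogonal W) = W :=
  LinearMap.BilinForm.orthogonal_orthogonal B_nondeg refl_B W

theorem finrank_V : finrank (ZMod 2) V = 6 := by
  rw [finrank_pi]
  decide +kernel

theorem finrank_orth (W : Submodule (ZMod 2) V) :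
    finrank (ZMod 2) (B.orthogonal W) = 6 - finrank (ZMod 2) W := by
  rw [LinearMap.BilinForm.finrank_orthogonal B_nondeg, finrank_V]

/-- a submodule from a set closed under addition -/
def mkSub (P : V → Prop) (h0 : P 0) (ha : ∀ v w, P v → P w → P (v + w)) : Submodule (ZMod 2) V where
  carrier := {v | P v}
  zero_mem' := h0
  add_mem' := fun {v w} hv hw => ha v w hv hw
  smul_mem' := by
    intro c v hv
    rcases zmod_cases c with rfl | rfl
    · rw [zero_smul]
      exact h0
    · rw [one_smul]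
      exact hv

theorem mem_mkSub {P : V → Prop} {h0 : P 0} {ha : ∀ v w, P v → P w → P (v + w)} {v : V} :
    v ∈ mkSub P h0 ha ↔ P v := Iff.rfl

end Cfsg.Agent.H104.EP
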