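import Cfsg.Agent.H104.EP.Norm
import Cfsg.Agent.H692.NSyl
import Cfsg.Agent.GH.C2SevenTop

/-!
# Subgroups of `O₆⁻(2)` (helper104): irreducible subgroups of order prime to 5
-/

set_option autoImplicit false

namespace Cfsg.Agent.H104.EP

open Subgroup Cfsg Cfsg.Agent.H781.U42Num Cfsg.Agent.H781.U42Gam Cfsg.Agent.H845.AutUFour

set_option maxHeartbeats 400000

theorem finite_Γ : Finite Γ := Nat.finite_of_card_ne_zero (by rw [card_isometry]; norm_num)

/-- **Irreducible subgroups of order prime to 5.** -/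
theorem of_solvable {M : Subgroup Γ} (hirr : Irr M) (h5 : ¬ 5 ∣ Nat.card M) (hM : M ≠ ⊥) : Fix3 M ∨ Fix4 M := by
  have hfin : Finite Γ := finite_Γ
  have h2 : Nat.card M ∣ 2 ^ 7 * 3 ^ 4 := by
    have h1 : Nat.card M ∣ 51840 := by
      rw [← card_isometry]
      exact card_subgroup_dvd_card M
    have h3 : Nat.Coprime (Nat.card M) 5 := ((Nat.Prime.coprime_iff_not_dvd (by norm_num)).2 h5).symm
    have h4 : (51840 : ℕ) = 5 * (2 ^ 7 * 3 ^ 4) := by norm_num
    rw [h4] at h1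
    exact h3.dvd_of_dvd_mul_left h1
  have hsol : Group.IsSolvable M := GH.C2SevenTop.solvable_of_dvd Nat.prime_two Nat.prime_three h2
  have ht : (⊤ : Subgroup M) ≠ ⊥ := by
    intro e
    apply hM
    rw [Subgroup.eq_bot_iff_forall]
    intro x hx
    have h3 : (⟨x, hx⟩ : M) ∈ (⊤ : Subgroup M) := Subgroup.mem_top _
    rw [e, Subgroup.mem_bot] at h3
    exact congrArg Subtype.val h3
  obtain ⟨K, hKn, -, hK1, hKmin⟩ := H692.NSyl.exists_minimal_normal (⊤ : Subgroup M) inferInstance ht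
  have hKs : Group.IsSolvable K := inferInstance
  obtain ⟨hKc, r, hr, hKr⟩ := H692.NSyl.elementary_of_minimal K hKn hK1 hKmin hKs
  have hn : ∀ g ∈ M, ∀ x ∈ K.map M.subtype, g * x * g⁻¹ ∈ K.map M.subtype := by
    rintro g hg _ ⟨k, hk, rfl⟩
    have h6 : M.subtype ((⟨g, hg⟩ : M) * k * (⟨g, hg⟩ : M)⁻¹) = g * M.subtype k * g⁻¹ := by
      rw [map_mul, map_mul, map_inv]
      rfl
    exact ⟨(⟨g, hg⟩ : M) * k * (⟨g, hg⟩ : M)⁻¹, hKn.conj_mem k hk (⟨g, hg⟩ : M), h6⟩
  have hX : K.map M.subtype ≠ ⊥ := by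
    intro e
    rw [Subgroup.map_eq_bot_iff_of_injective _ M.subtype_injective] at e
    exact hK1 e
  have hc : ∀ x ∈ K.map M.subtype, ∀ y ∈ K.map M.subtype, x * y = y * x := by
    rintro _ ⟨a, ha, rfl⟩ _ ⟨b, hb, rfl⟩
    have h6 := congrArg M.subtype (hKc a ha b hb)
    rwa [map_mul, map_mul] at h6
  have hp : ∀ x ∈ K.map M.subtype, x ^ r = 1 := by
    rintro _ ⟨a, ha, rfl⟩
    have h6 := congrArg M.subtype (hKr a ha)
    rwa [map_pow, map_one] at h6
  have hr23 : r = 2 ∨ r = 3 := by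
    obtain ⟨k, hk⟩ := Subgroup.ne_bot_iff_exists_ne_one.1 hK1
    have h3 : orderOf (k : M) = r := by
      have h4 : orderOf (k : M) ∣ r := orderOf_dvd_of_pow_eq_one (hKr k k.2)
      rcases (Nat.dvd_prime hr).1 h4 with h5 | h5
      · exfalso
        rw [orderOf_eq_one_iff] at h5
        exact hk (Subtype.ext h5)
      · exact h5
    have h4 : r ∣ 2 ^ 7 * 3 ^ 4 := by
      rw [← h3]
      exact (_root_.orderOf_dvd_natCard _).trans h2
    rcases (Nat.Prime.dvd_mul hr).1 h4 with h5 | h5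
    · left
      exact (Nat.prime_dvd_prime_iff_eq hr Nat.prime_two).1 (hr.dvd_of_dvd_pow h5)
    · right
      exact (Nat.prime_dvd_prime_iff_eq hr Nat.prime_three).1 (hr.dvd_of_dvd_pow h5)
  rcases hr23 with rfl | rfl
  · exact (two hirr hn hp hX).elim
  · refine three hirr hn hc (fun x hx => ?_) hX
    have h3 := hp x hx
    rw [pow_succ, pow_two, mul_assoc] at h3
    exact h3

end Cfsg.Agent.H104.EP
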