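import Cfsg.Agent.H104.EP.Five3
import Cfsg.Agent.H104.EP.Solv

/-!
# Subgroups of `O₆⁻(2)` (helper104): the number of the structures
-/

set_option autoImplicit false

namespace Cfsg.Agent.H104.EP

open Subgroup Cfsg Cfsg.Agent.H781.U42Num Cfsg.Agent.H781.U42Gam Cfsg.Agent.H845.AutUFour

set_option maxHeartbeats 400000

/-- filtered numbers -/
def flt : ℕ → (ℕ → Bool) → List ℕ
  | 0, _ => []
  | n + 1, f => bif f n then n :: flt n f else flt n f

theorem mem_flt {n : ℕ} {f : ℕ → Bool} {x : ℕ} (hx : x < n) (hf : f x = true) : x ∈ flt n f := by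
  induction n with
  | zero => omega
  | succ n ih =>
    rw [flt]
    rcases Nat.lt_succ_iff_lt_or_eq.1 hx with h | rfl
    · have h1 := ih h
      cases f n
      · exact h1
      · exact List.mem_cons_of_mem _ h1
    · rw [hf]
      exact List.mem_cons_self

/-- equality of booleans -/
def be (a b : Bool) : Bool := Bool.not (Bool.xor a b)

theorem be_of_eq {a b : Bool} (h : a = b) : be a b = true := by
  subst h
  cases a <;> rfl

/-- the conditions on the image `x` of `e` with the earlier basis vectors `es` and their images `ts` -/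
def okp (e x : ℕ) : List ℕ → List ℕ → Bool
  | ej :: es, tj :: ts => Bool.and (Bool.and (be (pol tj x) (pol ej e)) (be (Bool.xor (pol e tj) (pol ej x)) (pol ej e)))
      (okp e x es ts)
  | _, _ => true

def ok1 (e x : ℕ) (es ts : List ℕ) : Bool := Bool.and (be (qf x) (qf e)) (Bool.and (be (pol e x) (qf e)) (okp e x es ts))

def grow (e : ℕ) (es : List ℕ) : List (List ℕ) → List (List ℕ)
  | [] => []
  | ts :: L => (flt 64 fun x => ok1 e x es ts).map (fun x => x :: ts) ++ grow e es L

theorem mem_grow {e : ℕ} {es : List ℕ} {L : List (List ℕ)} {ts : List ℕ} (hts : ts ∈ L) {x : ℕ} (hx : x < 64)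
    (h : ok1 e x es ts = true) : x :: ts ∈ grow e es L := by
  induction L with
  | nil => simp at hts
  | cons t L ih =>
    rw [grow, List.mem_append]
    rcases List.mem_cons.1 hts with rfl | h1
    · left
      exact List.mem_map.2 ⟨x, mem_flt hx h, rfl⟩
    · right
      exact ih h1

def leaves : List (List ℕ) :=
  grow 32 [16, 8, 4, 2, 1] (grow 16 [8, 4, 2, 1] (grow 8 [4, 2, 1] (grow 4 [2, 1] (grow 2 [1] (grow 1 [] [[]])))))

set_option maxRecDepth 100000 in
theorem leaves_le : leaves.length ≤ 80 := by decide +kernel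

/-- fixed point free elements of order three -/
def Fpf (x : Γ) : Prop := ∀ v : V, v + x • v + x • x • v = 0

theorem Fpf.B_eq {x : Γ} (h : Fpf x) (v : V) : B v (x • v) = Q6 v := by
  have h1 : v + x • v = x • x • v := eq_of_add_eq_zero' (h v)
  have h2 : Q6 (v + x • v) = Q6 v := by
    rw [h1]
    exact (Q_smul x (x • v)).trans (Q_smul x v)
  have h3 := Q_add v (x • v)
  have h4 : Q6 (x • v) = Q6 v := Q_smul x v
  rw [h2, h4, two_self, zero_add] at h3
  exact h3.symm

theorem Fpf.B_add {x : Γ} (h : Fpf x) (v w : V) : B v (x • w) + B w (x • v) = B v w := by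
  have h1 := h.B_eq (v + w)
  have h2 : x • (v + w) = x • v + x • w := smul_add x v w
  rw [h2, map_add, map_add, LinearMap.add_apply, LinearMap.add_apply, h.B_eq, h.B_eq, Q_add] at h1
  have h3 : ∀ a b c d e : ZMod 2, a + c + (d + b) = a + b + e → d + c = e := by decide
  exact h3 _ _ _ _ _ h1

theorem iff_be {a b : Bool} (h : a = true ↔ b = true) : be a b = true := be_of_eq (by rwa [← Bool.eq_iff_iff] at h)

theorem Fpf.ok_one {x : Γ} (h : Fpf x) {e : ℕ} (he : e < 64) : be (pol e (a x e)) (qf e) = true := by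
  apply iff_be
  have h1 := pol_ofV (toV e) (x • toV e)
  have h2 : ofV (x • toV e) = a x e := rfl
  rw [ofV_toV e he] at h1
  have h3 := h.B_eq (toV e)
  have h4 := qf_spec e he
  rw [← h2, h1, h4]
  exact ⟨fun h5 => h3.symm.trans h5, fun h5 => h3.trans h5⟩

theorem Fpf.ok_two {x : Γ} (h : Fpf x) {e e' : ℕ} (he : e < 64) (he' : e' < 64) :
    be (Bool.xor (pol e (a x e')) (pol e' (a x e))) (pol e' e) = true := by
  apply iff_be
  have h1 := pol_ofV (toV e) (x • toV e')
  have h2 := pol_ofV (toV e') (x • toV e)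
  have h3 := pol_ofV (toV e') (toV e)
  have k1 : ofV (x • toV e') = a x e' := rfl
  have k2 : ofV (x • toV e) = a x e := rfl
  rw [ofV_toV e he] at h1 h3
  rw [ofV_toV e' he'] at h2 h3
  rw [k1] at h1
  rw [k2] at h2
  have h4 := bxor_iff _ _ _ _ h1 h2
  have h5 := h.B_add (toV e) (toV e')
  rw [h4, h3, B_comm (toV e') (toV e)]
  exact ⟨fun h6 => h5.symm.trans h6, fun h6 => h5.trans h6⟩

theorem Fpf.mem_leaves {x : Γ} (h : Fpf x) : [a x 32, a x 16, a x 8, a x 4, a x 2, a x 1] ∈ leaves := by
  have hq : ∀ e < 64, be (qf (a x e)) (qf e) = true := fun e he => be_of_eq (qf_a x he)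
  have hp : ∀ e < 64, ∀ e' < 64, be (pol (a x e') (a x e)) (pol e' e) = true := fun e he e' he' =>
    be_of_eq (pol_a x he' he)
  have l1 : 1 < 64 := by norm_num
  have l2 : 2 < 64 := by norm_num
  have l4 : 4 < 64 := by norm_num
  have l8 : 8 < 64 := by norm_num
  have l16 : 16 < 64 := by norm_num
  have l32 : 32 < 64 := by norm_num
  have st : ∀ e < 64, ∀ e' < 64, ∀ {es ts : List ℕ}, okp e (a x e) es ts = true →
      okp e (a x e) (e' :: es) (a x e' :: ts) = true := by
    intro e he e' he' es ts h1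
    exact band_intro (band_intro (hp e he e' he') (h.ok_two he he')) h1
  have fin : ∀ e < 64, ∀ {es ts : List ℕ}, okp e (a x e) es ts = true → ok1 e (a x e) es ts = true := by
    intro e he es ts h1
    exact band_intro (hq e he) (band_intro (h.ok_one he) h1)
  refine mem_grow ?_ (a_lt x 32) (fin 32 l32 (st _ l32 _ l16 (st _ l32 _ l8 (st _ l32 _ l4 (st _ l32 _ l2
    (st _ l32 _ l1 rfl))))))
  refine mem_grow ?_ (a_lt x 16) (fin 16 l16 (st _ l16 _ l8 (st _ l16 _ l4 (st _ l16 _ l2 (st _ l16 _ l1 rfl)))))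
  refine mem_grow ?_ (a_lt x 8) (fin 8 l8 (st _ l8 _ l4 (st _ l8 _ l2 (st _ l8 _ l1 rfl))))
  refine mem_grow ?_ (a_lt x 4) (fin 4 l4 (st _ l4 _ l2 (st _ l4 _ l1 rfl)))
  refine mem_grow ?_ (a_lt x 2) (fin 2 l2 (st _ l2 _ l1 rfl))
  refine mem_grow ?_ (a_lt x 1) (fin 1 l1 rfl)
  exact List.mem_singleton.2 rfl

theorem ncard_fpf : {x : Γ | Fpf x}.ncard ≤ 80 := by
  classical
  have h1 : {x : Γ | Fpf x}.ncard ≤ (leaves.toFinset : Set (List ℕ)).ncard := by
    refine Set.ncard_le_ncard_of_injOn (fun x => [a x 32, a x 16, a x 8, a x 4, a x 2, a x 1]) ?_ ?_ (Set.toFinite _)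
    · intro x hx
      rw [Finset.mem_coe, List.mem_toFinset]
      exact Fpf.mem_leaves hx
    · intro x _ y _ e
      simp only [List.cons.injEq, and_true] at e
      obtain ⟨e1, e2, e3, e4, e5, e6⟩ := e
      apply ext_basis
      intro m hm
      simp only [basis, List.mem_cons, List.not_mem_nil, or_false] at hm
      rcases hm with rfl | rfl | rfl | rfl | rfl | rfl
      · exact e6
      · exact e5
      · exact e4
      · exact e3
      · exact e2
      · exact e1
  rw [Set.ncard_coe_finset] at h1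
  exact h1.trans ((List.toFinset_card_le _).trans leaves_le)

end Cfsg.Agent.H104.EP
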