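import Cfsg.Agent.H104.EP.Frame2

/-!
# Subgroups of `O₆⁻(2)` (helper104): normal elementary abelian subgroups of irreducible groups
-/

set_option autoImplicit false

namespace Cfsg.Agent.H104.EP

open Subgroup Cfsg Cfsg.Agent.H781.U42Num Cfsg.Agent.H781.U42Gam Cfsg.Agent.H845.AutUFour Matrix Module

set_option maxHeartbeats 400000

theorem exists_vec : ∃ v : V, v ≠ 0 := by
  refine ⟨toV 1, ?_⟩
  intro h
  have h1 := congrArg ofV h
  rw [ofV_toV 1 (by norm_num), ofV_zero] at h1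
  exact one_ne_zero h1

/-- a normal elementary abelian 3-subgroup -/
theorem three {M X : Subgroup Γ} (hirr : Irr M) (hn : ∀ g ∈ M, ∀ x ∈ X, g * x * g⁻¹ ∈ X)
    (hc : ∀ x ∈ X, ∀ y ∈ X, x * y = y * x) (h3 : ∀ x ∈ X, x * (x * x) = 1) (hX : X ≠ ⊥) : Fix3 M ∨ Fix4 M := by
  have h : EX X := ⟨hc, h3, fun v hv => no_fixed hirr hn hX hv⟩
  by_cases hA : ∃ x ∈ X, x ≠ 1 ∧ ∃ d : V, d ≠ 0 ∧ x • d = d
  · left
    obtain ⟨x, hx, hx1, d, hd, hxd⟩ := hA
    obtain ⟨u, q, m, hP, y, hy, hyu, hyq⟩ := h.exists_mp hx hx1 hd hxd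
    refine ⟨u, q, m, fun g hg v hv => ?_⟩
    refine h.frame m hP hy hyu hyq hx hx1 hd hxd ((Q_smul g v).trans hv.1) fun z hz => ?_
    have hz' : g⁻¹ * z * g ∈ X := by
      have h1 := hn g⁻¹ (M.inv_mem hg) z hz
      rwa [inv_inv] at h1
    have e1 : ∀ w : V, z • g • w = g • ((g⁻¹ * z * g) • w) := by
      intro w
      rw [← mul_smul, ← mul_smul, ← mul_assoc, ← mul_assoc, mul_inv_cancel, one_mul]
    have e3 : T z (g • v) = g • T (g⁻¹ * z * g) v := by
      rw [T, T, e1, e1, smul_add, smul_add]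
    rcases h.T_of_frame m hP hv hz' with e2 | e2
    · left
      exact (e1 v).trans (congrArg (fun w : V => g • w) e2)
    · right
      exact e3.trans ((congrArg (fun w : V => g • w) e2).trans (smul_zero g))
  · right
    push Not at hA
    have hT : ∀ x ∈ X, x ≠ 1 → ∀ v : V, T x v = 0 := by
      intro x hx hx1 v
      by_contra hne
      exact hA x hx hx1 _ hne (smul_T (h.smul3 hx) v)
    obtain ⟨v, hv⟩ := exists_vec
    obtain ⟨x, hx, hx1⟩ := (Subgroup.ne_bot_iff_exists_ne_one.1 hX : ∃ a : X, a ≠ 1) |>.elim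
      (fun a ha => (⟨a.1, a.2, fun e => ha (Subtype.ext e)⟩ : ∃ x, x ∈ X ∧ x ≠ 1))
    have hall : ∀ y ∈ X, y ≠ 1 → y = x ∨ y = x * x := by
      intro y hy hy1
      by_contra hcon
      push Not at hcon
      obtain ⟨n1, n2⟩ := hcon
      apply hv
      have i3 : ∀ z ∈ X, z⁻¹ = z * z := fun z hz => inv_eq_of_mul_eq_one_right (h3 z hz)
      have hyy : y * y ∈ X := X.mul_mem hy hy
      refine eq_zero_of_T add_self (hc x hx y hy) (h.smul3 hy) (hT x hx hx1 v) (hT y hy hy1 v)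
        (hT _ (X.mul_mem hx hy) ?_ v) (hT _ (X.mul_mem hx hyy) ?_ v) ?_
      · intro e
        apply n2
        rw [← i3 x hx]
        exact eq_inv_of_mul_eq_one_right e
      · intro e
        apply n1
        have e1 : y * y = x⁻¹ := eq_inv_of_mul_eq_one_right e
        rw [← i3 y hy] at e1
        exact inv_injective e1
      · rw [hT y hy hy1 v, T, smul_zero, smul_zero, add_zero, add_zero]
    refine ⟨x, hT x hx hx1, fun g hg => ?_⟩
    apply hall _ (hn g hg x hx)
    intro e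
    apply hx1
    rw [mul_inv_eq_one] at e
    exact mul_left_cancel (e.trans (mul_one g).symm)

/-- a normal elementary abelian 2-subgroup -/
theorem two {M X : Subgroup Γ} (hirr : Irr M) (hn : ∀ g ∈ M, ∀ x ∈ X, g * x * g⁻¹ ∈ X)
    (h2 : ∀ x ∈ X, x ^ 2 = 1) (hX : X ≠ ⊥) : False := by
  have hfin : Finite Γ := Nat.finite_of_card_ne_zero (by rw [card_isometry]; norm_num)
  have hp : Fact (Nat.Prime 2) := ⟨Nat.prime_two⟩
  have hpg : IsPGroup 2 X := fun x => ⟨1, Subtype.ext (h2 x x.2)⟩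
  have h1 := hpg.card_modEq_card_fixedPoints V
  rw [card_V] at h1
  have h0 : (0 : V) ∈ MulAction.fixedPoints X V := fun x => smul_zero x
  obtain ⟨v, hv, hv0⟩ : ∃ v ∈ MulAction.fixedPoints X V, v ≠ 0 := by
    by_contra hcon
    push Not at hcon
    have h3 : MulAction.fixedPoints X V = {0} := by
      ext v
      exact ⟨fun hv => hcon v hv, fun hv => by rw [Set.mem_singleton_iff.1 hv]; exact h0⟩
    have h4 : Nat.card (MulAction.fixedPoints X V) = 1 := by
      rw [h3]
      exact Nat.card_unique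
    rw [h4] at h1
    exact absurd h1 (by decide)
  exact hv0 (no_fixed hirr hn hX fun x hx => hv ⟨x, hx⟩)

end Cfsg.Agent.H104.EP
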