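import Cfsg.Agent.H104.EP.FiveNum
import Cfsg.Agent.H104.EP.Norm

/-!
# Subgroups of `O₆⁻(2)` (helper104): irreducible subgroups containing an element of order five
-/

set_option autoImplicit false

namespace Cfsg.Agent.H104.EP

open Subgroup Cfsg Cfsg.Agent.H781.U42Num Cfsg.Agent.H781.U42Gam Cfsg.Agent.H845.AutUFour Matrix

set_option maxHeartbeats 400000

def yG : Γ := mk yl yil (by decide +kernel) (by decide +kernel) (by decide +kernel)

theorem a_yG : ∀ n < 64, a yG n = ap yl n := by decide +kernel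

theorem a_one {n : ℕ} (hn : n < 64) : a 1 n = n := by
  rw [a]
  have : ((1 : Γ) : GL I (ZMod 2)).1 = 1 := rfl
  rw [this, one_mulVec, ofV_toV n hn]

theorem yG5 : yG * (yG * (yG * (yG * yG))) = 1 := ext_basis (by decide +kernel)

theorem yG_ne : yG ≠ 1 := by
  intro h
  have h1 := congrArg (fun g => a g 1) h
  revert h1
  decide +kernel

theorem yG_mem : yG ∈ Omega (ZMod 2) Q6 := by
  have h1 : yG = (yG * (yG * yG)) * (yG * (yG * yG)) := by
    calc yG = (yG * (yG * (yG * (yG * yG)))) * yG := by rw [yG5, one_mul]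
      _ = _ := by group
  rw [h1]
  exact sq_mem _

theorem a_inv_a (g : Γ) {n : ℕ} (hn : n < 64) : a g⁻¹ (a g n) = n := by
  rw [← a_mul, inv_mul_cancel, a_one hn]

theorem a_a_inv (g : Γ) {n : ℕ} (hn : n < 64) : a g (a g⁻¹ n) = n := by
  rw [← a_mul, mul_inv_cancel, a_one hn]

theorem sm_eq (n : ℕ) (f : ℕ → ℕ) : sm n f = ∑ w ∈ Finset.range n, f w := by
  induction n with
  | zero => rfl
  | succ n ih =>
    rw [sm, Finset.sum_range_succ, ← ih]
    rfl

theorem sm_congr {f g : ℕ → ℕ} (h : ∀ w < 64, f w = g w) : sm 64 f = sm 64 g := by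
  rw [sm_eq, sm_eq]
  exact Finset.sum_congr rfl fun w hw => h w (Finset.mem_range.1 hw)

theorem sm_perm (g : Γ) (f : ℕ → ℕ) : sm 64 (fun w => f (a g w)) = sm 64 f := by
  rw [sm_eq, sm_eq]
  refine Finset.sum_nbij (a g) ?_ ?_ ?_ ?_
  · intro w _
    exact Finset.mem_range.2 (a_lt g w)
  · intro v hv w hw e
    have h1 := congrArg (a g⁻¹) e
    have hv' : v < 64 := Finset.mem_range.1 hv
    have hw' : w < 64 := Finset.mem_range.1 hw
    rwa [a_inv_a g hv', a_inv_a g hw'] at h1
  · intro w hw
    have hw' : w < 64 := Finset.mem_range.1 hw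
    exact ⟨a g⁻¹ w, Finset.mem_coe.2 (Finset.mem_range.2 (a_lt _ _)), a_a_inv g hw'⟩
  · intro w _
    rfl

/-- `F` is invariant under `g` -/
def InvF (F : ℕ → Bool) (g : Γ) : Prop := ∀ n < 64, F (a g n) = F n

theorem dg_inv {F : ℕ → Bool} {g : Γ} (h : InvF F g) {v : ℕ} (hv : v < 64) : dg F (a g v) = dg F v := by
  rw [dg, dg, ← sm_perm g]
  apply sm_congr
  intro w hw
  rw [h w hw, pol_a g hv hw]

theorem tr_inv {F : ℕ → Bool} {g : Γ} (h : InvF F g) {v : ℕ} (hv : v < 64) : tr F (a g v) = tr F v := by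
  rw [tr, tr, ← sm_perm g]
  apply sm_congr
  intro w hw
  rw [h w hw, pol_a g hv hw]
  congr 1
  rw [← sm_perm g]
  apply sm_congr
  intro x hx
  rw [h x hx, pol_a g hv hx, pol_a g hw hx]

theorem exists_bits (f : ℕ → Bool) (K : ℕ) : ∃ b < 2 ^ K, ∀ i < K, Nat.testBit b i = f i := by
  refine ⟨Nat.ofBits fun i : Fin K => f i, Nat.ofBits_lt_two_pow _, fun i hi => ?_⟩
  exact Nat.testBit_ofBits_lt _ i hi

theorem rp_lt (t i : ℕ) : rp t i < 64 := by
  have h : rp t i ≤ 63 := Nat.and_le_right
  omega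

theorem it_lt (k : ℕ) {n : ℕ} (hn : n < 64) : it k n < 64 := by
  induction k with
  | zero => exact hn
  | succ k ih =>
    rw [it, ← a_yG _ ih]
    exact a_lt _ _

theorem B_inv_smul (g : Γ) (z w : V) : B z (g⁻¹ • w) = B (g • z) w := by
  have h2 : g • g⁻¹ • w = w := by rw [← mul_smul, mul_inv_cancel, one_smul]
  exact (B_smul g z (g⁻¹ • w)).symm.trans (congrArg (fun x : V => B (g • z) x) h2)

/-- an orbit of an irreducible group containing `y` -/
theorem orb_full {M : Subgroup Γ} (hirr : Irr M) (hy : yG ∈ M) {P : ℕ → Bool} {t r K : ℕ}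
    (hA : chkA P t r K = true) (hB : chkB P t r K = true) (hP : ∀ g : Γ, ∀ n < 64, P (a g n) = P n)
    (hPm : P (rp r 0) = true) (hK : 0 < K) (hm : rp r 0 ≠ 0) :
    ∀ n < 64, P n = true → ∃ g ∈ M, a g (rp r 0) = n := by
  classical
  set m := rp r 0 with hmdef
  have hm64 : m < 64 := rp_lt r 0
  obtain ⟨f, hf⟩ : ∃ f : ℕ → Bool, ∀ n, f n = true ↔ ∃ g ∈ M, a g m = n :=
    ⟨fun n => decide (∃ g ∈ M, a g m = n), fun n => decide_eq_true_iff⟩
  have fP : ∀ n, f n = true → P n = true := by
    intro n hn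
    obtain ⟨g, -, rfl⟩ := (hf n).1 hn
    rw [hP g m hm64]
    exact hPm
  have finv : ∀ g ∈ M, ∀ n < 64, f (a g n) = f n := by
    intro g hg n hn
    rw [Bool.eq_iff_iff, hf, hf]
    constructor
    · rintro ⟨h, hh, e⟩
      refine ⟨g⁻¹ * h, M.mul_mem (M.inv_mem hg) hh, ?_⟩
      rw [a_mul, e, a_inv_a g hn]
    · rintro ⟨h, hh, e⟩
      refine ⟨g * h, M.mul_mem hg hh, ?_⟩
      rw [a_mul, e]
  have fit : ∀ k, ∀ n < 64, f (it k n) = f n := by
    intro k n hn
    induction k with
    | zero => rfl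
    | succ k ih =>
      have h1 := finv yG hy (it k n) (it_lt k hn)
      rw [a_yG _ (it_lt k hn)] at h1
      rw [it, h1, ih]
  obtain ⟨b, hb, hbi⟩ := exists_bits (fun i => f (rp r i)) K
  have hF : ∀ n < 64, FF P t b n = f n := by
    intro n hn
    by_cases hPn : P n = true
    · have h1 := im'_spec (allB_spec hA hn) hPn
      rw [Bool.and_eq_true] at h1
      obtain ⟨h2, h3⟩ := h1
      have h4 : ix t n < K := Nat.le_of_ble_eq_true h2
      rw [Bool.and_eq_true] at h3
      have h5 : ∃ k, it k (rp r (ix t n)) = n := by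
        rcases bor_elim h3.2 with h | h
        · exact ⟨0, Nat.eq_of_beq_eq_true h⟩
        rcases bor_elim h with h | h
        · exact ⟨1, Nat.eq_of_beq_eq_true h⟩
        rcases bor_elim h with h | h
        · exact ⟨2, Nat.eq_of_beq_eq_true h⟩
        rcases bor_elim h with h | h
        · exact ⟨3, Nat.eq_of_beq_eq_true h⟩
        · exact ⟨4, Nat.eq_of_beq_eq_true h⟩
      obtain ⟨k, hk⟩ := h5
      have h6 := fit k _ (rp_lt r (ix t n))
      rw [hk] at h6
      rw [FF, hPn, hbi _ h4, h6]
      rfl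
    · have h1 : f n = false := by
        rw [← Bool.not_eq_true]
        exact fun h => hPn (fP n h)
      rw [Bool.not_eq_true] at hPn
      rw [FF, hPn, h1]
      rfl
  have hFinv : ∀ g ∈ M, InvF (FF P t b) g := by
    intro g hg n hn
    rw [hF n hn, hF _ (a_lt g n), finv g hg n hn]
  have hb0 : Nat.testBit b 0 = true := by
    rw [hbi 0 hK, hf]
    exact ⟨1, M.one_mem, a_one hm64⟩
  have k1 := im'_spec (allB_spec hB hb) hb0
  have horb : ∀ i < K, Nat.testBit b i = true → ∃ g ∈ M, a g m = rp r i := by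
    intro i hi h
    rw [hbi i hi, hf] at h
    exact h
  have hall : ∀ (n : ℕ) (f : ℕ → Bool), (∀ i < n, f i = true) → allB n f = true := by
    intro n f h
    induction n with
    | zero => rfl
    | succ n ih =>
      rw [allB, Bool.and_eq_true]
      exact ⟨h n (Nat.lt_succ_self n), ih fun i hi => h i (hi.trans (Nat.lt_succ_self n))⟩
  have him : ∀ a b : Bool, (a = true → b = true) → im' a b = true := by decide
  have k2 := im'_spec k1 (hall K _ fun i hi => him _ _ fun h => by
    obtain ⟨g, hg, e⟩ := horb i hi h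
    rw [← e, dg_inv (hFinv g hg) hm64]
    exact Nat.beq_refl _)
  have k3 := im'_spec k2 (hall K _ fun i hi => him _ _ fun h => by
    obtain ⟨g, hg, e⟩ := horb i hi h
    rw [← e, tr_inv (hFinv g hg) hm64]
    exact Nat.beq_refl _)
  -- the third condition
  have hcs : ∀ z < 64, z ≠ 0 → Bool.not (cs (FF P t b) m z) = true := by
    intro z hz hz0
    apply bnot_intro
    rw [← Bool.not_eq_true]
    intro hcon
    have hpol : ∀ w < 64, f w = true → pol z w = pol z m := by
      intro w hw hfw
      have h1 := im'_spec (allB_spec hcon hw) (by rw [hF w hw]; exact hfw)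
      revert h1
      cases pol z w <;> cases pol z m <;> decide
    let R : Submodule (ZMod 2) V := mkSub (fun z => ∀ w w' : V, f (ofV w) = true → f (ofV w') = true → B z w = B z w')
      (fun w w' _ _ => by rw [map_zero]; rfl) fun z z' hz hz' w w' hw hw' => by
        rw [map_add, LinearMap.add_apply, LinearMap.add_apply, hz w w' hw hw', hz' w w' hw hw']
    have hfV : ∀ g ∈ M, ∀ w : V, f (ofV (g • w)) = f (ofV w) := by
      intro g hg w
      have h1 := finv g hg (ofV w) (ofV_lt w)
      rw [a, toV_ofV] at h1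
      exact h1
    have hRinv : Inv M R := by
      intro g hg z hz w w' hw hw'
      have h1 := hz (g⁻¹ • w) (g⁻¹ • w') (by rw [hfV _ (M.inv_mem hg)]; exact hw)
        (by rw [hfV _ (M.inv_mem hg)]; exact hw')
      exact (B_inv_smul g z w).symm.trans (h1.trans (B_inv_smul g z w'))
    have hzR : toV z ∈ R := by
      have h1 : ∀ w : V, f (ofV w) = true → B (toV z) w = B (toV z) (toV m) := by
        intro w hw
        have h2 := hpol (ofV w) (ofV_lt w) hw
        have h3 := pol_ofV (toV z) w
        have h4 := pol_ofV (toV z) (toV m)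
        rw [ofV_toV z hz, h2] at h3
        rw [ofV_toV z hz, ofV_toV m hm64] at h4
        have h5 : ∀ x y : ZMod 2, (x = 1 ↔ y = 1) → x = y := by decide
        exact h5 _ _ (h3.symm.trans h4)
      intro w w' hw hw'
      rw [h1 w hw, h1 w' hw']
    rcases hirr R hRinv with h1 | h1
    · rw [h1] at hzR
      apply hz0
      have h2 := congrArg ofV ((Submodule.mem_bot _).1 hzR)
      rw [ofV_toV z hz, ofV_zero] at h2
      exact h2
    · have h2 : ∀ w w' : V, f (ofV w) = true → f (ofV w') = true → w = w' := by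
        intro w w' hw hw'
        apply eq_of_add_eq_zero'
        apply eq_zero_of_B
        intro v
        have h3 : v ∈ R := by rw [h1]; exact Submodule.mem_top
        rw [map_add, h3 w w' hw hw']
        exact two_self _
      have h3 : f m = true := (hf m).2 ⟨1, M.one_mem, a_one hm64⟩
      have h4 : ∀ g ∈ M, g • toV m = toV m := by
        intro g hg
        apply h2
        · rw [hfV g hg, ofV_toV m hm64]
          exact h3
        · rw [ofV_toV m hm64]
          exact h3
      have h5 := no_fixed hirr (X := M) (fun g hg x hx => M.mul_mem (M.mul_mem hg hx) (M.inv_mem hg))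
        (fun e => yG_ne (by rw [e] at hy; exact Subgroup.mem_bot.1 hy)) h4
      apply hm
      have h6 := congrArg ofV h5
      rw [ofV_toV m hm64, ofV_zero] at h6
      exact h6
  have k4 := im'_spec k3 (band_intro (hcs 12 (by norm_num) (by norm_num)) (band_intro
    (hcs 39 (by norm_num) (by norm_num)) (hcs 43 (by norm_num) (by norm_num))))
  have k5 : b = 2 ^ K - 1 := Nat.eq_of_beq_eq_true k4
  intro n hn hPn
  rw [← hf, ← hF n hn, FF, hPn, k5, Nat.testBit_two_pow_sub_one]
  have h1 := im'_spec (allB_spec hA hn) hPn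
  rw [Bool.and_eq_true] at h1
  have h4 : ix t n < K := Nat.le_of_ble_eq_true h1.1
  rw [decide_eq_true h4]
  rfl

end Cfsg.Agent.H104.EP
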