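import Cfsg.Agent.H104.EP.Five
import Cfsg.Agent.H76.PsuFour

/-!
# Subgroups of `O₆⁻(2)` (helper104): irreducible subgroups of order divisible by five
-/

set_option autoImplicit false

namespace Cfsg.Agent.H104.EP

open Subgroup Cfsg Cfsg.Agent.H781.U42Num Cfsg.Agent.H781.U42Gam Cfsg.Agent.H845.AutUFour MulAction

set_option maxHeartbeats 400000

theorem card_cases {n : ℕ} (h1 : n ≡ 1 [MOD 5]) (h : n ∣ 4 ∨ n ∣ 8 ∨ n ∣ 9) : n = 1 := by
  have h2 : n ≤ 9 := by
    rcases h with h | h | h
    · exact (Nat.le_of_dvd (by norm_num) h).trans (by norm_num)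
    · exact (Nat.le_of_dvd (by norm_num) h).trans (by norm_num)
    · exact Nat.le_of_dvd (by norm_num) h
  rw [Nat.ModEq] at h1
  interval_cases n <;> revert h1 h <;> decide

theorem norm5 {H : Type*} [Group H] [Finite H] {y : H} (hy : orderOf y = 5)
    (hc : Nat.card H = 20 ∨ Nat.card H = 40 ∨ Nat.card H = 45) (h : H) : h * y * h⁻¹ ∈ zpowers y := by
  have hp : Fact (Nat.Prime 5) := ⟨by norm_num⟩
  have h1 : IsPGroup 5 (zpowers y) := IsPGroup.of_card (n := 1) (by rw [Nat.card_zpowers, hy, pow_one])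
  obtain ⟨P, hP⟩ := h1.exists_le_sylow
  have hcP : Nat.card P = 5 := by
    obtain ⟨k, hk⟩ := IsPGroup.iff_card.1 P.isPGroup'
    have h3 : Nat.card P ∣ Nat.card H := card_subgroup_dvd_card (P : Subgroup H)
    have h4 : 5 ∣ Nat.card P := by
      have h5 := card_dvd_of_le hP
      rw [Nat.card_zpowers, hy] at h5
      exact h5
    rw [hk] at h3 h4 ⊢
    rcases Nat.lt_or_ge k 2 with h5 | h5
    · interval_cases k
      · norm_num at h4
      · norm_num
    · exfalso
      have h6 : 5 ^ 2 ∣ Nat.card H := (pow_dvd_pow 5 h5).trans h3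
      rcases hc with h | h | h <;> rw [h] at h6 <;> norm_num at h6
  have hPy : (P : Subgroup H) = zpowers y := by
    symm
    apply Subgroup.eq_of_le_of_card_ge hP
    rw [Nat.card_zpowers, hy]
    exact hcP.le
  have hn : Nat.card (Sylow 5 H) = 1 := by
    apply card_cases (card_sylow_modEq_one 5 H)
    have h3 := P.card_dvd_index
    have h4 := (P : Subgroup H).card_mul_index
    have h5 : Nat.card (P : Subgroup H) = 5 := hcP
    rw [h5] at h4
    rcases hc with h | h | h
    · left
      have h6 : (P : Subgroup H).index = 4 := by omega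
      rwa [h6] at h3
    · right; left
      have h6 : (P : Subgroup H).index = 8 := by omega
      rwa [h6] at h3
    · right; right
      have h6 : (P : Subgroup H).index = 9 := by omega
      rwa [h6] at h3
  have hsub : Subsingleton (Sylow 5 H) := (Nat.card_eq_one_iff_unique.1 hn).1
  have hnorm : (P : Subgroup H).Normal := inferInstance
  rw [← hPy]
  exact hnorm.conj_mem y (by rw [hPy]; exact mem_zpowers y) h


/-! ### orbits -/

/-- the action on numbers -/
instance actF : MulAction Γ (Fin 64) where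
  smul g n := ⟨a g n, a_lt g n⟩
  one_smul n := Fin.ext (a_one n.2)
  mul_smul g h n := Fin.ext (a_mul g h n)

theorem coe_smul (g : Γ) (n : Fin 64) : ((g • n : Fin 64) : ℕ) = a g n := rfl

/-- the index of a stabiliser -/
theorem index_stab {M : Subgroup Γ} {P : ℕ → Bool} {m : Fin 64} (hP : ∀ g : Γ, P (a g m) = true)
    (h : ∀ n < 64, P n = true → ∃ g ∈ M, a g m = n) :
    (stabilizer M m).index = (Finset.univ.filter fun n : Fin 64 => P n = true).card := by
  rw [index_stabilizer]
  have h1 : orbit M m = ((Finset.univ.filter fun n : Fin 64 => P n = true : Finset (Fin 64)) : Set (Fin 64)) := by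
    ext n
    rw [Finset.coe_filter, Set.mem_ofPred_eq]
    constructor
    · rintro ⟨g, rfl⟩
      exact ⟨Finset.mem_univ _, hP g⟩
    · rintro ⟨-, hn⟩
      obtain ⟨g, hg, e⟩ := h n n.2 hn
      exact ⟨⟨g, hg⟩, Fin.ext e⟩
  rw [h1, Set.ncard_coe_finset]

theorem count_N : (Finset.univ.filter fun n : Fin 64 => qf n = true).card = 36 := by decide +kernel
theorem count_S : (Finset.univ.filter fun n : Fin 64 => sg n = true).card = 27 := by decide +kernel

theorem sg_a (g : Γ) {n : ℕ} (hn : n < 64) : sg (a g n) = sg n := by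
  rw [sg, sg, qf_a g hn]
  congr 2
  rw [Bool.eq_iff_iff]
  constructor
  · intro h
    have h1 := congrArg (a g⁻¹) (Nat.eq_of_beq_eq_true h)
    rw [a_inv_a g hn, a_zero] at h1
    rw [h1]
    rfl
  · intro h
    rw [Nat.eq_of_beq_eq_true h, a_zero]
    rfl

theorem rp_N : rp rN 0 = 12 := by decide +kernel
theorem rp_S : rp rS 0 = 39 := by decide +kernel

theorem index_12 {M : Subgroup Γ} (hirr : Irr M) (hy : yG ∈ M) : (stabilizer M (12 : Fin 64)).index = 36 := by
  rw [index_stab (P := qf), count_N]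
  · intro g
    rw [qf_a g (12 : Fin 64).2]
    decide +kernel
  · have h := orb_full hirr hy chkA_N chkB_N (fun g n hn => qf_a g hn) (by rw [rp_N]; decide +kernel) (by norm_num)
      (by rw [rp_N]; norm_num)
    rw [rp_N] at h
    exact h

theorem index_39 {M : Subgroup Γ} (hirr : Irr M) (hy : yG ∈ M) : (stabilizer M (39 : Fin 64)).index = 27 := by
  rw [index_stab (P := sg), count_S]
  · intro g
    rw [sg_a g (39 : Fin 64).2]
    decide +kernel
  · have h := orb_full hirr hy chkA_S chkB_S (fun g n hn => sg_a g hn) (by rw [rp_S]; decide +kernel) (by norm_num)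
      (by rw [rp_S]; norm_num)
    rw [rp_S] at h
    exact h

theorem fix_y : ∀ n < 64, ap yl n = n → n = 0 ∨ n = 12 ∨ n = 39 ∨ n = 43 := by decide +kernel

/-- elements normalising `⟨y⟩` permute the fixed vectors -/
theorem fix_of_norm {g : Γ} (h : g⁻¹ * yG * g ∈ zpowers yG) {n : ℕ} (hn : n < 64) (hy : a yG n = n) :
    a yG (a g n) = a g n := by
  have h1 : ∀ k ∈ zpowers yG, a k n = n := by
    intro k hk
    have h2 : zpowers yG ≤ stabilizer Γ (⟨n, hn⟩ : Fin 64) := by
      rw [zpowers_le, mem_stabilizer_iff]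
      exact Fin.ext hy
    have h3 := h2 hk
    rw [mem_stabilizer_iff] at h3
    exact congrArg Fin.val h3
  have h2 := h1 _ h
  have h3 : yG * g = g * (g⁻¹ * yG * g) := by group
  rw [← a_mul, h3, a_mul, h2]

theorem order_y : orderOf yG = 5 := by
  have hp : Fact (Nat.Prime 5) := ⟨by norm_num⟩
  apply orderOf_eq_prime
  · have h : yG ^ 5 = yG * (yG * (yG * (yG * yG))) := by
      simp only [pow_succ, pow_zero, one_mul, mul_assoc]
    rw [h, yG5]
  · exact yG_ne

/-- a stabiliser of order 20, 40 or 45 -/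
theorem norm_stab {M : Subgroup Γ} (hy : yG ∈ M) {n : Fin 64} (hyn : a yG n = n)
    (hc : Nat.card (stabilizer M n) = 20 ∨ Nat.card (stabilizer M n) = 40 ∨ Nat.card (stabilizer M n) = 45)
    {g : M} (hg : g ∈ stabilizer M n) : (g : Γ)⁻¹ * yG * g ∈ zpowers yG := by
  have hfin : Finite Γ := Nat.finite_of_card_ne_zero (by rw [card_isometry]; norm_num)
  have hy' : (⟨yG, hy⟩ : M) ∈ stabilizer M n := by
    rw [mem_stabilizer_iff]
    exact Fin.ext hyn
  have ho : orderOf (⟨⟨yG, hy⟩, hy'⟩ : stabilizer M n) = 5 := by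
    rw [← orderOf_injective (M.subtype.comp (stabilizer M n).subtype)
      (M.subtype_injective.comp (stabilizer M n).subtype_injective)]
    exact order_y
  have h1 := norm5 ho hc (⟨g, hg⟩⁻¹ : stabilizer M n)
  rw [inv_inv, mem_zpowers_iff] at h1
  obtain ⟨k, hk⟩ := h1
  have h2 := congrArg (fun x : stabilizer M n => ((x : M) : Γ)) hk
  rw [mem_zpowers_iff]
  exact ⟨k, h2⟩

end Cfsg.Agent.H104.EP
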