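import Cfsg.Agent.H104.EP.Five2

/-!
# Subgroups of `O₆⁻(2)` (helper104): irreducible subgroups of order divisible by five contain `Ω`
-/

set_option autoImplicit false

namespace Cfsg.Agent.H104.EP

open Subgroup Cfsg Cfsg.Agent.H781.U42Num Cfsg.Agent.H781.U42Gam Cfsg.Agent.H845.AutUFour MulAction

set_option maxHeartbeats 400000

/-- a subgroup not containing `Ω` is small -/
theorem card_le {M : Subgroup Γ} (h : ¬ Omega (ZMod 2) Q6 ≤ M) : Nat.card M ≤ 1920 := by
  have hfin : Finite Γ := Nat.finite_of_card_ne_zero (by rw [card_isometry]; norm_num)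
  have hp : Fact (Nat.Prime 2) := ⟨Nat.prime_two⟩
  have : Fintype (GaloisField 2 2) := Fintype.ofFinite _
  have hF : Fintype.card (GaloisField 2 2) = 4 := by
    have h := GaloisField.card 2 2 (by norm_num)
    rw [Nat.card_eq_fintype_card] at h
    rw [h]
    norm_num
  obtain ⟨e⟩ := H781.U42Act.exists_omega hF
  have h1 : (M.subgroupOf (Omega (ZMod 2) Q6)).comap e.toMonoidHom ≠ ⊤ := by
    intro h2
    apply h
    intro x hx
    have h3 : e.symm ⟨x, hx⟩ ∈ (M.subgroupOf (Omega (ZMod 2) Q6)).comap e.toMonoidHom := by
      rw [h2]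
      exact Subgroup.mem_top _
    have h4 : e (e.symm ⟨x, hx⟩) ∈ M.subgroupOf (Omega (ZMod 2) Q6) := h3
    rw [e.apply_symm_apply] at h4
    exact h4
  have h2 := H76.PsuFour.psu_four_two hF _ h1
  rw [Subgroup.index_comap_of_surjective _ e.surjective] at h2
  have h3 := (M.subgroupOf (Omega (ZMod 2) Q6)).card_mul_index
  rw [card_omega] at h3
  have h4 : Nat.card (M.subgroupOf (Omega (ZMod 2) Q6)) * 27 ≤ 25920 := by
    rw [← h3]
    exact Nat.mul_le_mul_left _ h2
  have h5 : Nat.card (M.subgroupOf (Omega (ZMod 2) Q6)) = Nat.card ((Omega (ZMod 2) Q6).subgroupOf M) := by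
    rw [Nat.card_congr ((M.subgroupOf (Omega (ZMod 2) Q6)).equivMapOfInjective _ (Subgroup.subtype_injective _)).toEquiv,
      Nat.card_congr (((Omega (ZMod 2) Q6).subgroupOf M).equivMapOfInjective _ (Subgroup.subtype_injective _)).toEquiv,
      Subgroup.subgroupOf_map_subtype, Subgroup.subgroupOf_map_subtype, inf_comm]
  have h6 := ((Omega (ZMod 2) Q6).subgroupOf M).card_mul_index
  have h7 : ((Omega (ZMod 2) Q6).subgroupOf M).index ≤ 2 := by
    have h8 := Subgroup.relIndex_dvd_index_of_normal (Omega (ZMod 2) Q6) M
    rw [index_omega] at h8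
    exact Nat.le_of_dvd (by norm_num) h8
  rw [← h6, ← h5]
  calc _ ≤ Nat.card (M.subgroupOf (Omega (ZMod 2) Q6)) * 2 := Nat.mul_le_mul_left _ h7
    _ ≤ _ := by omega

theorem omega_le {M : Subgroup Γ} (hirr : Irr M) (hy : yG ∈ M) : Omega (ZMod 2) Q6 ≤ M := by
  by_contra hcon
  have hfin : Finite Γ := Nat.finite_of_card_ne_zero (by rw [card_isometry]; norm_num)
  have h1 := card_le hcon
  have h12 := (stabilizer M (12 : Fin 64)).card_mul_index
  have h39 := (stabilizer M (39 : Fin 64)).card_mul_index
  rw [index_12 hirr hy] at h12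
  rw [index_39 hirr hy] at h39
  have h5 : 5 ∣ Nat.card M := by
    have h6 : zpowers yG ≤ M := by rwa [zpowers_le]
    have h7 := card_dvd_of_le h6
    rw [Nat.card_zpowers, order_y] at h7
    exact h7
  have y12 : a yG ((12 : Fin 64) : ℕ) = ((12 : Fin 64) : ℕ) := by decide +kernel
  have y39 : a yG ((39 : Fin 64) : ℕ) = ((39 : Fin 64) : ℕ) := by decide +kernel
  -- the case of a stabiliser of 39 of order 20 or 40
  have c39 : Nat.card (stabilizer M (39 : Fin 64)) = 20 ∨ Nat.card (stabilizer M (39 : Fin 64)) = 40 →
      Nat.card (stabilizer M (39 : Fin 64)) ∣ Nat.card (stabilizer M (12 : Fin 64)) := by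
    intro hc
    apply card_dvd_of_le
    intro g hg
    have h6 := norm_stab hy y39 (by tauto) hg
    have h7 := fix_of_norm h6 (n := 12) (by norm_num) y12
    have h8 : a g 12 < 64 := a_lt _ _
    rw [a_yG _ h8] at h7
    have h9 : qf (a g 12) = true := by
      rw [qf_a _ (by norm_num)]
      decide +kernel
    rw [mem_stabilizer_iff]
    apply Fin.ext
    change a g 12 = 12
    rcases fix_y _ h8 h7 with e | e | e | e
    · rw [e] at h9
      exact absurd h9 (by decide +kernel)
    · exact e
    · rw [e] at h9
      exact absurd h9 (by decide +kernel)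
    · rw [e] at h9
      exact absurd h9 (by decide +kernel)
  have c12 : Nat.card (stabilizer M (12 : Fin 64)) = 45 →
      Nat.card (stabilizer M (12 : Fin 64)) ∣ Nat.card (stabilizer M (39 : Fin 64)) := by
    intro hc
    apply card_dvd_of_le
    have hsq : ∀ g ∈ stabilizer M (12 : Fin 64), g * g ∈ stabilizer M (39 : Fin 64) := by
      intro g hg
      have h6 := norm_stab hy y12 (by tauto) hg
      have h8 : ∀ n, n = 39 ∨ n = 43 → a g n = 39 ∨ a g n = 43 := by
        intro n hn
        have hn64 : n < 64 := by omega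
        have h7 := fix_of_norm h6 hn64 (by
          rcases hn with rfl | rfl
          · decide +kernel
          · decide +kernel)
        have h8 : a g n < 64 := a_lt _ _
        rw [a_yG _ h8] at h7
        have h9 : sg (a g n) = true := by
          rw [sg_a _ hn64]
          rcases hn with rfl | rfl
          · decide +kernel
          · decide +kernel
        rcases fix_y _ h8 h7 with e | e | e | e
        · rw [e] at h9
          exact absurd h9 (by decide +kernel)
        · rw [e] at h9
          exact absurd h9 (by decide +kernel)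
        · exact Or.inl e
        · exact Or.inr e
      rw [mem_stabilizer_iff]
      apply Fin.ext
      change a ((g : Γ) * g) 39 = 39
      rw [a_mul]
      rcases h8 39 (Or.inl rfl) with e | e
      · rw [e, e]
      · rw [e]
        rcases h8 43 (Or.inr rfl) with e' | e'
        · exact e'
        · exfalso
          have h9 := congrArg (a (g : Γ)⁻¹) (e.trans e'.symm)
          rw [a_inv_a _ (by norm_num), a_inv_a _ (by norm_num)] at h9
          exact absurd h9 (by norm_num)
    intro g hg
    have h6 := (stabilizer M (39 : Fin 64)).pow_mem (hsq g hg) 23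
    have h7 : g ^ 45 = 1 := by
      have h8 : (⟨g, hg⟩ : stabilizer M (12 : Fin 64)) ^ Nat.card (stabilizer M (12 : Fin 64)) = 1 := pow_card_eq_one'
      rw [hc] at h8
      exact congrArg Subtype.val h8
    have h8 : (g * g) ^ 23 = g := by
      rw [← pow_two, ← pow_mul]
      calc g ^ (2 * 23) = g ^ 45 * g := by rw [← pow_succ]
        _ = g := by rw [h7, one_mul]
    rwa [h8] at h6
  have hpos : 0 < Nat.card M := Nat.card_pos
  generalize Nat.card (stabilizer M (39 : Fin 64)) = s at *
  generalize Nat.card (stabilizer M (12 : Fin 64)) = t at *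
  generalize Nat.card M = m at *
  obtain ⟨k, rfl⟩ : 540 ∣ m := by omega
  have hk : k ≤ 3 := by omega
  interval_cases k
  · omega
  · have e1 : s = 20 := by omega
    have e2 : t = 15 := by omega
    have h2 := c39 (Or.inl e1)
    rw [e1, e2] at h2
    exact absurd h2 (by norm_num)
  · have e1 : s = 40 := by omega
    have e2 : t = 30 := by omega
    have h2 := c39 (Or.inr e1)
    rw [e1, e2] at h2
    exact absurd h2 (by norm_num)
  · have e1 : s = 60 := by omega
    have e2 : t = 45 := by omega
    have h2 := c12 e2
    rw [e1, e2] at h2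
    exact absurd h2 (by norm_num)

end Cfsg.Agent.H104.EP
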