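import Cfsg.Agent.H104.EP.Num

/-!
# Subgroups of `O₆⁻(2)` (helper104): unions of orbits of an element of order five
-/

set_option autoImplicit false

namespace Cfsg.Agent.H104.EP

open Cfsg Cfsg.Agent.H781.U42Num

/-- the element of order five, its inverse, its cube and the inverse of the cube -/
def yl : List ℕ := [19, 44, 27, 23, 34, 3]
def yil : List ℕ := [62, 30, 9, 5, 33, 14]

/-- iterates -/
def it : ℕ → ℕ → ℕ
  | 0, n => n
  | k + 1, n => ap yl (it k n)

/-- sums -/
def sm : ℕ → (ℕ → ℕ) → ℕ
  | 0, _ => 0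
  | n + 1, f => Nat.add (sm n f) (f n)

/-- digits -/
def ix (t n : ℕ) : ℕ := Nat.land (Nat.shiftRight t (4 * n)) 15
def rp (t i : ℕ) : ℕ := Nat.land (Nat.shiftRight t (6 * i)) 63

/-- a union of orbits -/
def FF (P : ℕ → Bool) (t b n : ℕ) : Bool := Bool.and (P n) (Nat.testBit b (ix t n))

/-- the degree -/
def dg (F : ℕ → Bool) (v : ℕ) : ℕ := sm 64 fun w => bif Bool.and (F w) (pol v w) then 1 else 0

/-- twice the number of triangles -/
def tr (F : ℕ → Bool) (v : ℕ) : ℕ :=
  sm 64 fun w => bif Bool.and (F w) (pol v w) then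
    (sm 64 fun x => bif Bool.and (F x) (Bool.and (pol v x) (pol w x)) then 1 else 0) else 0

/-- `pol z` is constant on the set -/
def cs (F : ℕ → Bool) (m z : ℕ) : Bool := allB 64 fun w => im' (F w) (Bool.not (Bool.xor (pol z w) (pol z m)))

def chkA (P : ℕ → Bool) (t r K : ℕ) : Bool :=
  allB 64 fun n => im' (P n) (Bool.and (lt' (ix t n) K) (Bool.and (P (rp r (ix t n)))
    (Bool.or (Nat.beq (it 0 (rp r (ix t n))) n) (Bool.or (Nat.beq (it 1 (rp r (ix t n))) n)
    (Bool.or (Nat.beq (it 2 (rp r (ix t n))) n) (Bool.or (Nat.beq (it 3 (rp r (ix t n))) n)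
      (Nat.beq (it 4 (rp r (ix t n))) n)))))))

def chkB (P : ℕ → Bool) (t r K : ℕ) : Bool :=
  allB (2 ^ K) fun b => im' (Nat.testBit b 0)
    (im' (allB K fun i => im' (Nat.testBit b i) (Nat.beq (dg (FF P t b) (rp r i)) (dg (FF P t b) (rp r 0))))
      (im' (allB K fun i => im' (Nat.testBit b i) (Nat.beq (tr (FF P t b) (rp r i)) (tr (FF P t b) (rp r 0))))
        (im' (Bool.and (Bool.not (cs (FF P t b) (rp r 0) 12)) (Bool.and (Bool.not (cs (FF P t b) (rp r 0) 39))
          (Bool.not (cs (FF P t b) (rp r 0) 43)))) (Nat.beq b (2 ^ K - 1)))))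

def tN : ℕ := 7237055346041734056333265763461927288629628125793798796118313913116518256640
def tS : ℕ := 972207605819366444020516691543407030083622263052965787665081483746006532896
def rN : ℕ := 111411672674508
def rS : ℕ := 1929581697767

set_option maxRecDepth 100000 in
theorem chkA_N : chkA qf tN rN 8 = true := by decide +kernel

set_option maxRecDepth 100000 in
theorem chkA_S : chkA sg tS rS 7 = true := by decide +kernel

set_option maxRecDepth 100000 in
theorem chkB_N : chkB qf tN rN 8 = true := by decide +kernel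

set_option maxRecDepth 100000 in
theorem chkB_S : chkB sg tS rS 7 = true := by decide +kernel

end Cfsg.Agent.H104.EP
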