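import Cfsg.Agent.H104.EP.Three

/-!
# Subgroups of `O₆⁻(2)` (helper104): the frame of a noncyclic abelian 3-subgroup
-/

set_option autoImplicit false

namespace Cfsg.Agent.H104.EP

open Subgroup Cfsg Cfsg.Agent.H781.U42Num Cfsg.Agent.H781.U42Gam Cfsg.Agent.H845.AutUFour Matrix Module

set_option maxHeartbeats 400000

/-- commutative groups of exponent three without fixed vectors -/
structure EX (X : Subgroup Γ) : Prop where
  comm : ∀ x ∈ X, ∀ y ∈ X, x * y = y * x
  three : ∀ x ∈ X, x * (x * x) = 1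
  fix : ∀ v : V, (∀ x ∈ X, x • v = v) → v = 0

namespace EX

variable {X : Subgroup Γ} (h : EX X)

include h

theorem smul3 {x : Γ} (hx : x ∈ X) (v : V) : x • x • x • v = v := by
  rw [← mul_smul, ← mul_smul, mul_assoc, h.three x hx, one_smul]

theorem smul_comm' {x y : Γ} (hx : x ∈ X) (hy : y ∈ X) (v : V) : x • y • v = y • x • v := by
  rw [← mul_smul, h.comm x hx y hy, mul_smul]

theorem exists_move {v : V} (hv : v ≠ 0) : ∃ x ∈ X, x • v ≠ v := by
  by_contra hcon
  push Not at hcon
  exact hv (h.fix v hcon)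

/-- an invariant plane -/
theorem exists_plane {x : Γ} (hx : x ∈ X) (hx1 : x ≠ 1) {d : V} (hd0 : d ≠ 0) (hxd : x • d = d) :
    ∃ P : Submodule (ZMod 2) V, Inv X P ∧ ∃ u ∈ P, ∃ w ∈ P, B u w = 1 ∧ ∀ p ∈ P, p = 0 ∨ p = u ∨ p = w ∨ p = u + w := by
  let D : Submodule (ZMod 2) V := mkSub (fun v => x • v = v) (smul_zero _) fun v w hv hw => by
    rw [smul_add, hv, hw]
  have hmem : ∀ v, v ∈ D ↔ x • v = v := fun v => Iff.rfl
  have hD : Inv X D := by
    intro y hy v hv
    rw [hmem] at hv ⊢
    rw [h.smul_comm' hx hy, hv]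
  have hb : D ≠ ⊥ := by
    intro e
    have h1 : d ∈ D := (hmem d).2 hxd
    rw [e] at h1
    exact hd0 ((Submodule.mem_bot _).1 h1)
  have ht : D ≠ ⊤ := by
    intro e
    apply hx1
    apply eq_one_of_smul
    intro v
    exact (hmem v).1 (by rw [e]; exact Submodule.mem_top)
  have hnd : ∀ p ∈ D, (∀ q ∈ D, B q p = 0) → p = 0 := by
    intro p hp h1
    apply eq_zero_of_B
    intro v
    have h2 : T x v ∈ D := (hmem _).2 (smul_T (h.smul3 hx) v)
    have h3 := h1 _ h2
    have h4 : ∀ w : V, B (x • w) p = B w p := by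
      intro w
      have h5 := B_smul x w p
      rw [(hmem p).1 hp] at h5
      exact h5
    rw [T, map_add, map_add, LinearMap.add_apply, LinearMap.add_apply, h4, h4, h4] at h3
    rw [two_self, zero_add] at h3
    exact h3
  rcases Nat.lt_or_ge 3 (finrank (ZMod 2) D) with h3 | h3
  · refine ⟨_, hD.orth, Cfsg.Agent.H104.EP.exists_plane ?_ ?_ (by rw [finrank_orth]; omega)⟩
    · intro h4
      apply ht
      rw [← orth_orth D, h4]
      ext v
      constructor
      · intro _
        exact Submodule.mem_top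
      · intro _ w hw
        rw [Submodule.mem_bot] at hw
        rw [hw]
        change B 0 v = 0
        rw [map_zero]
        rfl
    · intro p hp h4
      apply hnd p
      · rw [← orth_orth D]
        exact h4
      · exact hp
  · exact ⟨_, hD, Cfsg.Agent.H104.EP.exists_plane hb hnd h3⟩

/-- a minus plane moved by an element of `X` -/
theorem exists_mp {x : Γ} (hx : x ∈ X) (hx1 : x ≠ 1) {d : V} (hd0 : d ≠ 0) (hxd : x • d = d) :
    ∃ u q : V, MP u q ∧ (∀ y ∈ X, InP u q (y • u) ∧ InP u q (y • q)) ∧ ∃ y ∈ X, y • u = q ∧ y • q = u + q := by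
  obtain ⟨P, hP, u, hu, w, hw, huw, hall⟩ := h.exists_plane hx hx1 hd0 hxd
  have hu0 : u ≠ 0 := by
    intro e
    rw [e, map_zero] at huw
    exact absurd huw (by change ¬ ((0 : ZMod 2) = 1); decide)
  obtain ⟨y, hy, hyu⟩ := h.exists_move hu0
  have hq : y • u ∈ P := hP y hy u hu
  have hq0 : y • u ≠ 0 := smul_ne_zero' hu0
  have hc : y • u = w ∨ y • u = u + w := by
    rcases hall _ hq with e | e | e | e
    · exact absurd e hq0
    · exact absurd e hyu
    · exact Or.inl e
    · exact Or.inr e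
  have huq : B u (y • u) = 1 := by
    rcases hc with e | e
    · rw [e, huw]
    · rw [e, map_add, B_self, huw, zero_add]
  have hall' : ∀ p ∈ P, p = 0 ∨ p = u ∨ p = y • u ∨ p = u + y • u := by
    intro p hp
    rcases hc with e | e
    · rw [e]
      exact hall p hp
    · rw [e, ← add_assoc, add_self, zero_add]
      rcases hall p hp with e | e | e | e
      · exact Or.inl e
      · exact Or.inr (Or.inl e)
      · exact Or.inr (Or.inr (Or.inr e))
      · exact Or.inr (Or.inr (Or.inl e))
  have hyq : y • y • u = u + y • u := by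
    rcases hall' _ (hP y hy _ hq) with e | e | e | e
    · exact absurd e (smul_ne_zero' hq0)
    · exfalso
      have h1 := h.smul3 hy u
      rw [e] at h1
      exact hyu h1
    · exfalso
      exact hyu (smul_inj e)
    · exact e
  have hQ1 : Q6 (y • u) = Q6 u := Q_smul y u
  have hQ2 : Q6 (u + y • u) = Q6 u := by
    rw [← hyq]
    exact (Q_smul y (y • u)).trans hQ1
  have hQ3 : Q6 u = 1 := by
    have h1 := Q_add u (y • u)
    rw [hQ2, hQ1, huq, two_self, zero_add] at h1
    exact h1
  refine ⟨u, y • u, ⟨hQ3, hQ1.trans hQ3, huq⟩, ?_, y, hy, rfl, hyq⟩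
  intro z hz
  have h1 : ∀ p ∈ P, p ≠ 0 → InP u (y • u) (z • p) := by
    intro p hp hp0
    rcases hall' _ (hP z hz p hp) with e | e
    · exact absurd e (smul_ne_zero' hp0)
    · exact e
  exact ⟨h1 u hu hu0, h1 _ hq hq0⟩

end EX

end Cfsg.Agent.H104.EP
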