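import Cfsg.Agent.H104.EP.Frame

/-!
# Subgroups of `O₆⁻(2)` (helper104): the frame of a noncyclic abelian 3-subgroup, II
-/

set_option autoImplicit false

namespace Cfsg.Agent.H104.EP

open Subgroup Cfsg Cfsg.Agent.H781.U42Num Cfsg.Agent.H781.U42Gam Cfsg.Agent.H845.AutUFour Matrix Module

set_option maxHeartbeats 400000

namespace MP

variable {u q : V} (m : MP u q)

include m

theorem inP_ne {a : V} (h : InP u q a) : a ≠ 0 := by
  rcases h with rfl | rfl | rfl
  · exact m.u_ne
  · exact m.swap.u_ne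
  · exact m.rot.swap.u_ne

theorem inP_Q {a : V} (h : InP u q a) : Q6 a = 1 := by
  rcases h with rfl | rfl | rfl
  · exact m.q1
  · exact m.q2
  · exact m.q3

theorem sum_of {a b c : V} (ha : InP u q a) (hb : InP u q b) (hc : InP u q c) (hab : a ≠ b) (hbc : b ≠ c)
    (hac : a ≠ c) : a + b + c = 0 := by
  have h1 : u + q + (u + q) = 0 := add_self _
  rcases ha with rfl | rfl | rfl <;> rcases hb with hb | hb | hb <;> rcases hc with hc | hc | hc
  all_goals
    first
    | exact absurd hb.symm hab
    | exact absurd hc.symm hac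
    | exact absurd (hb.trans hc.symm) hbc
    | (rw [hb, hc]
       first
       | exact h1
       | (rw [← h1]; abel))

theorem not_pp {a : V} (h : InP u q a) (hp : Pp u q a) : False := by
  have h10 : (1 : ZMod 2) ≠ 0 := by decide
  rcases h with rfl | rfl | rfl
  · have h2 := hp.2
    rw [B_comm, m.b] at h2
    exact h10 h2
  · have h2 := hp.1
    rw [m.b] at h2
    exact h10 h2
  · have h2 := hp.1
    rw [map_add, B_self, m.b, zero_add] at h2
    exact h10 h2

end MP

namespace EX

variable {X : Subgroup Γ} (h : EX X)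

include h

theorem three_distinct {x : Γ} (hx : x ∈ X) {v : V} (hv : x • v ≠ v) : v ≠ x • v ∧ x • v ≠ x • x • v ∧ v ≠ x • x • v := by
  refine ⟨hv.symm, fun e => hv (smul_inj e).symm, fun e => ?_⟩
  have h1 := h.smul3 hx v
  rw [← e] at h1
  exact hv h1

theorem inP_smul {u q : V} (hP : ∀ y ∈ X, InP u q (y • u) ∧ InP u q (y • q)) {y : Γ} (hy : y ∈ X) {a : V}
    (m : MP u q) (ha : InP u q a) : InP u q (y • a) := by
  rcases ha with rfl | rfl | rfl
  · exact (hP y hy).1
  · exact (hP y hy).2
  · obtain ⟨h1, h2⟩ := hP y hy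
    have h3 : y • u ≠ y • q := fun e => m.ne (smul_inj e)
    rw [smul_add]
    have e1 : u + (u + q) = q := by rw [← add_assoc, add_self, zero_add]
    have e2 : q + (u + q) = u := by rw [add_comm u q, ← add_assoc, add_self, zero_add]
    have e3 : u + q + u = q := by rw [add_comm (u + q) u, e1]
    have e4 : u + q + q = u := by rw [add_comm (u + q) q, e2]
    rcases h1 with h1 | h1 | h1 <;> rcases h2 with h2 | h2 | h2 <;> rw [h1, h2] at h3 ⊢
    · exact absurd rfl h3
    · exact Or.inr (Or.inr rfl)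
    · exact Or.inr (Or.inl e1)
    · exact Or.inr (Or.inr (add_comm _ _))
    · exact absurd rfl h3
    · exact Or.inl e2
    · exact Or.inr (Or.inl e3)
    · exact Or.inl e4
    · exact absurd rfl h3

theorem pp_smul {u q : V} (hP : ∀ y ∈ X, InP u q (y • u) ∧ InP u q (y • q)) {y : Γ} (hy : y ∈ X) {a : V}
    (ha : Pp u q a) : Pp u q (y • a) := by
  have h1 : ∀ b, InP u q b → B b a = 0 := by
    intro b hb
    rcases hb with rfl | rfl | rfl
    · exact ha.1
    · exact ha.2
    · rw [map_add, LinearMap.add_apply, ha.1, ha.2, add_zero]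
  obtain ⟨h2, h3⟩ := hP y⁻¹ (X.inv_mem hy)
  constructor
  · have h4 := h1 _ h2
    rw [← B_smul y, ← mul_smul, mul_inv_cancel, one_smul] at h4
    exact h4
  · have h4 := h1 _ h3
    rw [← B_smul y, ← mul_smul, mul_inv_cancel, one_smul] at h4
    exact h4

/-- vectors of the frame -/
theorem T_of_frame {u q : V} (m : MP u q) (hP : ∀ y ∈ X, InP u q (y • u) ∧ InP u q (y • q)) {v : V} (hv : Fr u q v)
    {x : Γ} (hx : x ∈ X) : x • v = v ∨ T x v = 0 := by
  by_cases e : x • v = v
  · exact Or.inl e
  right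
  obtain ⟨d1, d2, d3⟩ := h.three_distinct hx e
  rcases hv.2 with h1 | h1
  · have h2 := h.inP_smul hP hx m h1
    exact m.sum_of h1 h2 (h.inP_smul hP hx m h2) d1 d2 d3
  · have h2 := h.pp_smul hP hx h1
    have h3 := h.pp_smul hP hx h2
    have e1 : B (x • v) (x • x • v) = B v (x • v) := B_smul x _ _
    have e2 : B v (x • x • v) = B v (x • v) := by
      have h4 := B_smul x v (x • x • v)
      rw [h.smul3 hx, B_comm (x • v) v] at h4
      exact h4.symm
    have h4 := three_perp m hv.1 h1 ((Q_smul x v).trans hv.1) h2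
      ((Q_smul x (x • v)).trans ((Q_smul x v).trans hv.1)) h3 d1 d3 d2 e2 e1
    rw [T, h4]
    exact add_self _

/-- **The frame.** -/
theorem frame {u q : V} (m : MP u q) (hP : ∀ y ∈ X, InP u q (y • u) ∧ InP u q (y • q)) {y : Γ} (hy : y ∈ X)
    (hyu : y • u = q) (hyq : y • q = u + q) {x : Γ} (hx : x ∈ X) (hx1 : x ≠ 1) {d₀ : V} (hd₀ : d₀ ≠ 0)
    (hxd : x • d₀ = d₀) {v : V} (hv : Q6 v = 1) (hvX : ∀ x ∈ X, x • v = v ∨ T x v = 0) : Fr u q v := by
  by_contra hcon
  have c1 : ¬ InP u q v := fun h1 => hcon ⟨hv, Or.inl h1⟩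
  have c2 : ¬ Pp u q v := fun h1 => hcon ⟨hv, Or.inr h1⟩
  have hqu : B q u = 1 := by rw [B_comm]; exact m.b
  -- the decomposition `v = p + d`
  obtain ⟨p, hpdef⟩ : ∃ p : V, p = B q v • u + B u v • q := ⟨_, rfl⟩
  have hup : B u p = B u v := by
    rw [hpdef, map_add, map_smul, map_smul, B_self, m.b, smul_zero, zero_add, smul_eq_mul, mul_one]
  have hqp : B q p = B q v := by
    rw [hpdef, map_add, map_smul, map_smul, B_self, hqu, smul_zero, add_zero, smul_eq_mul, mul_one]
  have hp0 : p ≠ 0 := by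
    intro e
    rw [e, map_zero] at hup hqp
    exact c2 ⟨hup.symm, hqp.symm⟩
  have hpP : InP u q p := by
    rcases zmod_cases (B q v) with e1 | e1 <;> rcases zmod_cases (B u v) with e2 | e2 <;> rw [e1, e2] at hpdef
    · exfalso
      apply hp0
      rw [hpdef, zero_smul, zero_smul, add_zero]
    · exact Or.inr (Or.inl (by rw [hpdef, zero_smul, one_smul, zero_add]))
    · exact Or.inl (by rw [hpdef, zero_smul, one_smul, add_zero])
    · exact Or.inr (Or.inr (by rw [hpdef, one_smul, one_smul]))
  obtain ⟨d, hd⟩ : ∃ d : V, d = v + p := ⟨_, rfl⟩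
  have hdP : Pp u q d := by
    constructor
    · rw [hd, map_add, hup]
      exact two_self _
    · rw [hd, map_add, hqp]
      exact two_self _
  have hvpd : v = p + d := by rw [hd, add_comm v p, ← add_assoc, add_self, zero_add]
  have hd0 : d ≠ 0 := by
    intro e
    rw [e, add_zero] at hvpd
    exact c1 (by rw [hvpd]; exact hpP)
  have hBp : ∀ a, InP u q a → ∀ b, Pp u q b → B a b = 0 := by
    intro a ha b hb
    rcases ha with rfl | rfl | rfl
    · exact hb.1
    · exact hb.2
    · rw [map_add, LinearMap.add_apply, hb.1, hb.2, add_zero]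
  have hQd : Q6 d = 0 := by
    have h1 := Q_add p d
    rw [← hvpd, hv, m.inP_Q hpP, hBp p hpP d hdP, add_zero] at h1
    have h2 : ∀ z : ZMod 2, 1 = 1 + z → z = 0 := by decide
    exact h2 _ h1
  have hadd : ∀ {a b : V}, Pp u q a → Pp u q b → Pp u q (a + b) := by
    intro a b ha hb
    exact ⟨by rw [map_add, ha.1, hb.1, add_zero], by rw [map_add, ha.2, hb.2, add_zero]⟩
  -- the elements of `P`
  have hall : ∀ {z : Γ}, z ∈ X → z • p ≠ p → ∀ {a : V}, InP u q a → a = p ∨ a = z • p ∨ a = z • z • p := by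
    intro z hz hzp a ha
    by_contra h1
    push Not at h1
    obtain ⟨n1, n2, n3⟩ := h1
    obtain ⟨d1, d2, d3⟩ := h.three_distinct hz hzp
    have i1 := h.inP_smul hP hz m hpP
    have i2 := h.inP_smul hP hz m i1
    have s1 := m.sum_of hpP i1 i2 d1 d2 d3
    have s2 := m.sum_of hpP i1 ha d1 (Ne.symm n2) (Ne.symm n1)
    exact n3 (add_left_cancel (s2.trans s1.symm))
  -- `y` moves `p`
  have hyp : y • p ≠ p := by
    have e2 : y • (u + q) = u := by
      rw [smul_add, hyu, hyq, add_comm u q, ← add_assoc, add_self, zero_add]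
    rcases hpP with e | e | e <;> rw [e]
    · rw [hyu]
      exact m.ne.symm
    · rw [hyq]
      intro e3
      apply m.u_ne
      exact add_eq_right.1 e3
    · rw [e2]
      intro e3
      apply m.swap.u_ne
      exact left_eq_add.1 e3
  have hsplit : ∀ {a b : V}, InP u q a → Pp u q b → a + b ≠ 0 := by
    intro a b ha hb e
    rw [← eq_of_add_eq_zero' e] at hb
    exact m.not_pp ha hb
  -- fixed elements
  have hfixv : ∀ {z : Γ}, z ∈ X → z • v = v → z • p = p ∧ z • d = d := by
    intro z hz e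
    rw [hvpd, smul_add] at e
    have i1 := h.inP_smul hP hz m hpP
    have i2 := h.pp_smul hP hz hdP
    have e1 : z • p = p := by
      by_contra hne
      have s1 : InP u q (z • p + p) := by
        obtain ⟨d1, d2, d3⟩ := h.three_distinct hz hne
        have i3 := h.inP_smul hP hz m i1
        have s2 := m.sum_of hpP i1 i3 d1 d2 d3
        have s3 : z • p + p = z • z • p := by
          rw [add_comm]
          exact eq_of_add_eq_zero' s2
        rw [s3]
        exact i3
      apply hsplit s1 (hadd i2 hdP)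
      have e2 : z • p + p + (z • d + d) = (z • p + z • d) + (p + d) := by abel
      rw [e2, e]
      exact add_self _
    refine ⟨e1, ?_⟩
    rw [e1] at e
    exact add_left_cancel e
  have hyT : T y d = 0 := by
    rcases hvX y hy with e | e
    · exact absurd (hfixv hy e).1 hyp
    · rw [hvpd, T_add] at e
      obtain ⟨d1, d2, d3⟩ := h.three_distinct hy hyp
      have i1 := h.inP_smul hP hy m hpP
      have s1 : T y p = 0 := m.sum_of hpP i1 (h.inP_smul hP hy m i1) d1 d2 d3
      rw [s1, zero_add] at e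
      exact e
  obtain ⟨e, he⟩ : ∃ e : V, e = y • d := ⟨_, rfl⟩
  have heP : Pp u q e := by rw [he]; exact h.pp_smul hP hy hdP
  have he0 : e ≠ 0 := by rw [he]; exact smul_ne_zero' hd0
  have hQe : Q6 e = 0 := by rw [he]; exact (Q_smul y d).trans hQd
  have hde : d ≠ e := by
    intro e1
    rw [he] at e1
    rw [T_fix add_self e1.symm] at hyT
    exact hd0 hyT
  have hyye : y • e = d + e := by
    rw [T, ← he] at hyT
    exact (eq_of_add_eq_zero' hyT).symm
  have hBde : B d e = 0 := by
    have h1 := Q_add d e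
    have h2 : Q6 (d + e) = 0 := by rw [← hyye]; exact (Q_smul y e).trans hQe
    rw [h2, hQd, hQe, zero_add, zero_add] at h1
    exact h1.symm
  -- the element `k`
  obtain ⟨k, hk, hk1, hkp⟩ : ∃ k ∈ X, k ≠ 1 ∧ k • p = p := by
    by_cases hxp : x • p = p
    · exact ⟨x, hx, hx1, hxp⟩
    obtain ⟨z, hz, hzd⟩ := h.exists_move hd₀
    rcases hall hx hxp (h.inP_smul hP hz m hpP) with e1 | e1 | e1
    · refine ⟨z, hz, ?_, e1⟩
      rintro rfl
      exact hzd (one_smul _ _)
    · refine ⟨x⁻¹ * z, X.mul_mem (X.inv_mem hx) hz, ?_, ?_⟩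
      · intro e2
        have e3 : z = x := (inv_mul_eq_one.1 e2).symm
        rw [e3] at hzd
        exact hzd hxd
      · rw [mul_smul, e1, ← mul_smul, inv_mul_cancel, one_smul]
    · refine ⟨(x * x)⁻¹ * z, X.mul_mem (X.inv_mem (X.mul_mem hx hx)) hz, ?_, ?_⟩
      · intro e2
        have e3 : z = x * x := (inv_mul_eq_one.1 e2).symm
        rw [e3, mul_smul, hxd] at hzd
        exact hzd hxd
      · rw [mul_smul, e1, ← mul_smul x x, ← mul_smul, inv_mul_cancel, one_smul]
  have hkv : k • v = v := by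
    rcases hvX k hk with e1 | e1
    · exact e1
    · exfalso
      rw [hvpd, T_add, T_fix add_self hkp] at e1
      have i1 := h.pp_smul hP hk hdP
      exact hsplit hpP (hadd (hadd hdP i1) (h.pp_smul hP hk i1)) e1
  have hkd : k • d = d := (hfixv hk hkv).2
  have hke : k • e = e := by rw [he, h.smul_comm' hk hy, hkd]
  have hkP : ∀ {a : V}, InP u q a → k • a = a := by
    intro a ha
    rcases hall hy hyp ha with e1 | e1 | e1 <;> rw [e1]
    · exact hkp
    · rw [h.smul_comm' hk hy, hkp]
    · rw [h.smul_comm' hk hy, h.smul_comm' hk hy, hkp]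
  apply hk1
  apply eq_one_of_smul
  intro z
  have hperp : ∀ c : V, k • c = c → B c (z + k • z) = 0 := by
    intro c hc
    have h1 := B_smul k c z
    rw [hc] at h1
    rw [map_add, h1]
    exact two_self _
  have hfix : k • (z + k • z) = z + k • z := by
    rcases line_perp m hQd hd0 hdP hQe he0 heP hde hBde (y := z + k • z)
      ⟨hperp u (hkP (Or.inl rfl)), hperp q (hkP (Or.inr (Or.inl rfl)))⟩ ⟨hperp d hkd, hperp e hke⟩ with e1 | e1 | e1 | e1
    · rw [e1, smul_zero]
    · rw [e1, hkd]
    · rw [e1, hke]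
    · rw [e1, smul_add, hkd, hke]
  have h1 : k • k • z = z := by
    rw [smul_add, add_comm] at hfix
    exact add_right_cancel hfix
  have h2 := h.smul3 hk z
  rw [h1] at h2
  exact h2

end EX

end Cfsg.Agent.H104.EP
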