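import Cfsg.Agent.H104.EP.Base

/-!
# Subgroups of `O₆⁻(2)` (helper104): numerical facts about the form
-/

set_option autoImplicit false

namespace Cfsg.Agent.H104.EP

open Subgroup Cfsg Cfsg.Agent.H781.U42Num Cfsg.Agent.H781.U42Gam Cfsg.Agent.H845.AutUFour Matrix

/-- implication -/
def im' (a b : Bool) : Bool := Bool.or (Bool.not a) b

theorem im'_spec {a b : Bool} (h : im' a b = true) (ha : a = true) : b = true := by
  subst ha
  exact h

/-- singular and not zero -/
def sg (n : ℕ) : Bool := Bool.and (Bool.not (qf n)) (Bool.not (Nat.beq n 0))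

def lt' (m n : ℕ) : Bool := Nat.ble (m + 1) n

/-- totally singular subspaces -/
def chk0 : Bool :=
  allB 64 fun s => im' (sg s) (allB 64 fun t => im' (Bool.and (sg t) (Bool.and (Bool.not (Nat.beq s t)) (Bool.not (pol s t))))
    (allB 64 fun z => im' (Bool.and (Bool.not (qf z)) (Bool.and (Bool.not (pol s z)) (Bool.not (pol t z))))
      (Bool.or (Nat.beq z 0) (Bool.or (Nat.beq z s) (Bool.or (Nat.beq z t) (Nat.beq z (Nat.xor s t)))))))

set_option maxRecDepth 100000 in
theorem chk0_true : chk0 = true := by decide +kernel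

/-- a minus plane with an ordered basis -/
def pl (u w : ℕ) : Bool := Bool.and (lt' u w) (Bool.and (lt' w (Nat.xor u w)) (Bool.and (qf u) (Bool.and (qf w) (pol u w))))

/-- orthogonal to the plane -/
def pp (u w v : ℕ) : Bool := Bool.and (Bool.not (pol u v)) (Bool.not (pol w v))

def chk1 : Bool :=
  allB 64 fun u => im' (qf u) (allB 64 fun w => im' (pl u w)
    (allB 64 fun a => im' (Bool.and (qf a) (pp u w a))
      (allB 64 fun b => im' (Bool.and (qf b) (Bool.and (Bool.not (Nat.beq a b)) (pp u w b)))
        (allB 64 fun c => im' (Bool.and (qf c) (Bool.and (pp u w c) (Bool.and (Bool.not (Nat.beq a c))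
          (Bool.and (Bool.not (Nat.beq b c)) (Bool.and (Bool.not (Bool.xor (pol a c) (pol a b)))
            (Bool.not (Bool.xor (pol b c) (pol a b)))))))) (Nat.beq c (Nat.xor a b))))))

set_option maxRecDepth 100000 in
theorem chk1_true : chk1 = true := by decide +kernel

def chk2 : Bool :=
  allB 64 fun u => im' (qf u) (allB 64 fun w => im' (pl u w)
    (allB 64 fun d => im' (Bool.and (sg d) (pp u w d))
      (allB 64 fun e => im' (Bool.and (sg e) (Bool.and (Bool.not (Nat.beq d e)) (Bool.and (Bool.not (pol d e)) (pp u w e))))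
        (allB 64 fun y => im' (Bool.and (pp u w y) (pp d e y))
          (Bool.or (Nat.beq y 0) (Bool.or (Nat.beq y d) (Bool.or (Nat.beq y e) (Nat.beq y (Nat.xor d e)))))))))

set_option maxRecDepth 100000 in
theorem chk2_true : chk2 = true := by decide +kernel

end Cfsg.Agent.H104.EP
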