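import Cfsg.Agent.H104.EP.Num

/-!
# Subgroups of `O₆⁻(2)` (helper104): planes and frames
-/

set_option autoImplicit false

namespace Cfsg.Agent.H104.EP

open Subgroup Cfsg Cfsg.Agent.H781.U42Num Cfsg.Agent.H781.U42Gam Cfsg.Agent.H845.AutUFour Matrix

theorem band_intro {a b : Bool} (ha : a = true) (hb : b = true) : Bool.and a b = true := by
  subst ha hb
  rfl

theorem bnot_intro {a : Bool} (ha : a = false) : Bool.not a = true := by
  subst ha
  rfl

theorem bnot_beq {m n : ℕ} (h : m ≠ n) : Bool.not (Nat.beq m n) = true := by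
  apply bnot_intro
  rw [← Bool.not_eq_true]
  intro h1
  exact h (Nat.eq_of_beq_eq_true h1)

theorem bor_elim {a b : Bool} (h : Bool.or a b = true) : a = true ∨ b = true := by
  revert a b
  decide

theorem sg_ofV {v : V} (h : Q6 v = 0) (h0 : v ≠ 0) : sg (ofV v) = true :=
  band_intro (bnot_intro ((qf_ofV_false v).2 h)) (bnot_beq fun h1 => h0 (ofV_inj (h1.trans ofV_zero.symm)))

theorem four_cases {z s t : V} (h : Bool.or (Nat.beq (ofV z) 0) (Bool.or (Nat.beq (ofV z) (ofV s))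
    (Bool.or (Nat.beq (ofV z) (ofV t)) (Nat.beq (ofV z) (Nat.xor (ofV s) (ofV t))))) = true) :
    z = 0 ∨ z = s ∨ z = t ∨ z = s + t := by
  rcases bor_elim h with h | h
  · exact Or.inl (ofV_inj ((Nat.eq_of_beq_eq_true h).trans ofV_zero.symm))
  · rcases bor_elim h with h | h
    · exact Or.inr (Or.inl (ofV_inj (Nat.eq_of_beq_eq_true h)))
    · rcases bor_elim h with h | h
      · exact Or.inr (Or.inr (Or.inl (ofV_inj (Nat.eq_of_beq_eq_true h))))
      · refine Or.inr (Or.inr (Or.inr (ofV_inj ?_)))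
        rw [ofV_add]
        exact Nat.eq_of_beq_eq_true h

/-- totally singular subspaces have dimension at most two -/
theorem ts_two {s t z : V} (hs : Q6 s = 0) (hs0 : s ≠ 0) (ht : Q6 t = 0) (ht0 : t ≠ 0) (hst : s ≠ t)
    (h : B s t = 0) (hz : Q6 z = 0) (h1 : B s z = 0) (h2 : B t z = 0) : z = 0 ∨ z = s ∨ z = t ∨ z = s + t := by
  have e1 := im'_spec (allB_spec chk0_true (ofV_lt s)) (sg_ofV hs hs0)
  have e2 := im'_spec (allB_spec e1 (ofV_lt t)) (band_intro (sg_ofV ht ht0) (band_intro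
    (bnot_beq fun h3 => hst (ofV_inj h3)) (bnot_intro ((pol_ofV_false s t).2 h))))
  have e3 := im'_spec (allB_spec e2 (ofV_lt z)) (band_intro (bnot_intro ((qf_ofV_false z).2 hz)) (band_intro
    (bnot_intro ((pol_ofV_false s z).2 h1)) (bnot_intro ((pol_ofV_false t z).2 h2))))
  exact four_cases e3

/-- the minus planes -/
structure MP (u w : V) : Prop where
  q1 : Q6 u = 1
  q2 : Q6 w = 1
  b : B u w = 1

/-- ordered bases -/
def Pl (u w : V) : Prop := pl (ofV u) (ofV w) = true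

/-- members of the plane -/
def InP (u w v : V) : Prop := v = u ∨ v = w ∨ v = u + w

/-- orthogonal to the plane -/
def Pp (u w v : V) : Prop := B u v = 0 ∧ B w v = 0

/-- the two bases span the same plane -/
def Sm (u w u' w' : V) : Prop := (∀ v, InP u w v ↔ InP u' w' v) ∧ ∀ v, Pp u w v ↔ Pp u' w' v

theorem Sm.refl (u w : V) : Sm u w u w := ⟨fun _ => Iff.rfl, fun _ => Iff.rfl⟩

theorem Sm.trans {u w u' w' u'' w'' : V} (h : Sm u w u' w') (h' : Sm u' w' u'' w'') : Sm u w u'' w'' :=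
  ⟨fun v => (h.1 v).trans (h'.1 v), fun v => (h.2 v).trans (h'.2 v)⟩

theorem Sm.swap (u w : V) : Sm u w w u := by
  refine ⟨fun v => ?_, fun v => ?_⟩
  · rw [InP, InP, add_comm w u]
    tauto
  · rw [Pp, Pp, and_comm]

theorem Sm.rot (u w : V) : Sm u w u (u + w) := by
  refine ⟨fun v => ?_, fun v => ?_⟩
  · rw [InP, InP, ← add_assoc, add_self, zero_add]
    tauto
  · rw [Pp, Pp, map_add, LinearMap.add_apply]
    constructor
    · rintro ⟨h1, h2⟩
      exact ⟨h1, by rw [h1, h2, add_zero]⟩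
    · rintro ⟨h1, h2⟩
      rw [h1, zero_add] at h2
      exact ⟨h1, h2⟩

namespace MP

variable {u w : V} (h : MP u w)

include h

theorem q3 : Q6 (u + w) = 1 := by
  rw [Q_add, h.q1, h.q2, h.b]
  decide

theorem swap : MP w u := ⟨h.q2, h.q1, by rw [B_comm]; exact h.b⟩

theorem rot : MP u (u + w) := ⟨h.q1, h.q3, by rw [map_add, B_self, h.b, zero_add]⟩

theorem u_ne : u ≠ 0 := by
  intro h1
  have h2 := h.q1
  rw [h1, Q_zero] at h2
  exact absurd h2 (by decide)

theorem ne : u ≠ w := by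
  intro h1
  have h2 := h.b
  rw [← h1, B_self] at h2
  exact absurd h2 (by decide)

theorem toPl (h1 : ofV u < ofV w) (h2 : ofV w < ofV (u + w)) : Pl u w := by
  rw [ofV_add] at h2
  have hb : ∀ {m n : ℕ}, m < n → lt' m n = true := fun h => Nat.ble_eq_true_of_le h
  exact band_intro (hb h1) (band_intro (hb h2) (band_intro ((qf_ofV u).2 h.q1) (band_intro ((qf_ofV w).2 h.q2)
    ((pol_ofV u w).2 h.b))))

/-- every minus plane has an ordered basis -/
theorem exists_pl : ∃ u' w', MP u' w' ∧ Pl u' w' ∧ Sm u w u' w' := by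
  have a1 : ofV u ≠ ofV w := fun h1 => h.ne (ofV_inj h1)
  have a2 : ofV u ≠ ofV (u + w) := fun h1 => h.rot.ne (ofV_inj h1)
  have a3 : ofV w ≠ ofV (u + w) := by
    rw [add_comm u w]
    exact fun h1 => h.swap.rot.ne (ofV_inj h1)
  rcases lt_or_gt_of_ne a1 with b1 | b1
  · rcases lt_or_gt_of_ne a3 with b3 | b3
    · exact ⟨u, w, h, h.toPl b1 b3, Sm.refl u w⟩
    · rcases lt_or_gt_of_ne a2 with b2 | b2
      · refine ⟨u, u + w, h.rot, h.rot.toPl b2 ?_, Sm.rot u w⟩
        rw [← add_assoc, add_self, zero_add]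
        exact b3
      · refine ⟨u + w, u, h.rot.swap, h.rot.swap.toPl b2 ?_, (Sm.rot u w).trans (Sm.swap _ _)⟩
        rw [add_comm (u + w) u, ← add_assoc, add_self, zero_add]
        exact b1
  · rcases lt_or_gt_of_ne a2 with b2 | b2
    · refine ⟨w, u, h.swap, h.swap.toPl b1 ?_, Sm.swap u w⟩
      rw [add_comm w u]
      exact b2
    · rcases lt_or_gt_of_ne a3 with b3 | b3
      · refine ⟨w, w + u, h.swap.rot, h.swap.rot.toPl ?_ ?_, (Sm.swap u w).trans (Sm.rot w u)⟩
        · rw [add_comm w u]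
          exact b3
        · rw [← add_assoc, add_self, zero_add, add_comm w u]
          exact b2
      · refine ⟨w + u, w, h.swap.rot.swap, h.swap.rot.swap.toPl ?_ ?_,
          ((Sm.swap u w).trans (Sm.rot w u)).trans (Sm.swap _ _)⟩
        · rw [add_comm w u]
          exact b3
        · rw [add_comm (w + u) w, ← add_assoc, add_self, zero_add]
          exact b1

end MP

theorem qf_u_of_pl {u w : V} (h : Pl u w) : qf (ofV u) = true := by
  have h1 : pl (ofV u) (ofV w) = true := h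
  rw [pl, Bool.and_eq_true] at h1
  have h2 := h1.2
  rw [Bool.and_eq_true] at h2
  have h3 := h2.2
  rw [Bool.and_eq_true] at h3
  exact h3.1

theorem pp_of {u w v : V} (h : Pp u w v) : pp (ofV u) (ofV w) (ofV v) = true :=
  band_intro (bnot_intro ((pol_ofV_false u v).2 h.1)) (bnot_intro ((pol_ofV_false w v).2 h.2))

theorem bxor_false {a b : Bool} (x y : ZMod 2) (h1 : a = true ↔ x = 1) (h2 : b = true ↔ y = 1) (h : x = y) :
    Bool.xor a b = false := by
  subst h
  revert a b x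
  decide

/-- three nonsingular vectors orthogonal to a minus plane -/
theorem three_perp {u w a b c : V} (h : MP u w) (ha : Q6 a = 1) (ha' : Pp u w a) (hb : Q6 b = 1) (hb' : Pp u w b)
    (hc : Q6 c = 1) (hc' : Pp u w c) (hab : a ≠ b) (hac : a ≠ c) (hbc : b ≠ c) (e1 : B a c = B a b)
    (e2 : B b c = B a b) : c = a + b := by
  obtain ⟨u', w', h', hp, hs⟩ := h.exists_pl
  have k1 := im'_spec (allB_spec chk1_true (ofV_lt u')) (qf_u_of_pl hp)
  have k2 := im'_spec (allB_spec k1 (ofV_lt w')) hp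
  have k3 := im'_spec (allB_spec k2 (ofV_lt a)) (band_intro ((qf_ofV a).2 ha) (pp_of ((hs.2 a).1 ha')))
  have k4 := im'_spec (allB_spec k3 (ofV_lt b)) (band_intro ((qf_ofV b).2 hb) (band_intro
    (bnot_beq fun h3 => hab (ofV_inj h3)) (pp_of ((hs.2 b).1 hb'))))
  have k5 := im'_spec (allB_spec k4 (ofV_lt c)) (band_intro ((qf_ofV c).2 hc) (band_intro (pp_of ((hs.2 c).1 hc'))
    (band_intro (bnot_beq fun h3 => hac (ofV_inj h3)) (band_intro (bnot_beq fun h3 => hbc (ofV_inj h3))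
      (band_intro (bnot_intro (bxor_false _ _ (pol_ofV a c) (pol_ofV a b) e1))
        (bnot_intro (bxor_false _ _ (pol_ofV b c) (pol_ofV a b) e2)))))))
  apply ofV_inj
  rw [ofV_add]
  exact Nat.eq_of_beq_eq_true k5

/-- totally singular lines in the orthogonal space of a minus plane -/
theorem line_perp {u w d e y : V} (h : MP u w) (hd : Q6 d = 0) (hd0 : d ≠ 0) (hd' : Pp u w d) (he : Q6 e = 0)
    (he0 : e ≠ 0) (he' : Pp u w e) (hde : d ≠ e) (hb : B d e = 0) (hy : Pp u w y) (hy' : Pp d e y) :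
    y = 0 ∨ y = d ∨ y = e ∨ y = d + e := by
  obtain ⟨u', w', h', hp, hs⟩ := h.exists_pl
  have k1 := im'_spec (allB_spec chk2_true (ofV_lt u')) (qf_u_of_pl hp)
  have k2 := im'_spec (allB_spec k1 (ofV_lt w')) hp
  have k3 := im'_spec (allB_spec k2 (ofV_lt d)) (band_intro (sg_ofV hd hd0) (pp_of ((hs.2 d).1 hd')))
  have k4 := im'_spec (allB_spec k3 (ofV_lt e)) (band_intro (sg_ofV he he0) (band_intro
    (bnot_beq fun h3 => hde (ofV_inj h3)) (band_intro (bnot_intro ((pol_ofV_false d e).2 hb))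
      (pp_of ((hs.2 e).1 he')))))
  have k5 := im'_spec (allB_spec k4 (ofV_lt y)) (band_intro (pp_of ((hs.2 y).1 hy)) (pp_of hy'))
  exact four_cases k5

/-! ### the structures -/

/-- the frame of a minus plane -/
def Fr (u w v : V) : Prop := Q6 v = 1 ∧ (InP u w v ∨ Pp u w v)

def Fix1 (M : Subgroup Γ) : Prop := ∃ v : V, v ≠ 0 ∧ ∀ g ∈ M, g • v = v

/-- a totally singular line -/
structure TL (s t : V) : Prop where
  s0 : Q6 s = 0
  t0 : Q6 t = 0
  b : B s t = 0
  sn : s ≠ 0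
  tn : t ≠ 0
  st : s ≠ t

def Fix2 (M : Subgroup Γ) : Prop := ∃ s t : V, TL s t ∧ ∀ g ∈ M, InP s t (g • s) ∧ InP s t (g • t)

def Fix3 (M : Subgroup Γ) : Prop := ∃ u w : V, MP u w ∧ ∀ g ∈ M, ∀ v, Fr u w v → Fr u w (g • v)

def Fix4 (M : Subgroup Γ) : Prop := ∃ x : Γ, (∀ v : V, v + x • v + x • x • v = 0) ∧
  ∀ g ∈ M, g * x * g⁻¹ = x ∨ g * x * g⁻¹ = x * x

end Cfsg.Agent.H104.EP
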