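import Cfsg.Agent.H104.EP.NumV

/-!
# Subgroups of `O₆⁻(2)` (helper104): reducible subgroups
-/

set_option autoImplicit false

namespace Cfsg.Agent.H104.EP

open Subgroup Cfsg Cfsg.Agent.H781.U42Num Cfsg.Agent.H781.U42Gam Cfsg.Agent.H845.AutUFour Matrix Module

/-- a small nondegenerate subspace is a plane -/
theorem exists_plane {P : Submodule (ZMod 2) V} (hP : P ≠ ⊥) (hnd : ∀ p ∈ P, (∀ q ∈ P, B q p = 0) → p = 0)
    (hr : finrank (ZMod 2) P ≤ 3) :
    ∃ u ∈ P, ∃ w ∈ P, B u w = 1 ∧ ∀ p ∈ P, p = 0 ∨ p = u ∨ p = w ∨ p = u + w := by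
  obtain ⟨u, hu, hu0⟩ := (Submodule.ne_bot_iff P).1 hP
  have key : ∀ p ∈ P, p ≠ 0 → ∃ q ∈ P, B q p = 1 := by
    intro p hp hp0
    by_contra hcon
    push Not at hcon
    apply hp0
    apply hnd p hp
    intro q hq
    rcases zmod_cases (B q p) with h | h
    · exact h
    · exact absurd h (hcon q hq)
  obtain ⟨w, hw, hwu⟩ := key u hu hu0
  have huw : B u w = 1 := by rw [B_comm]; exact hwu
  refine ⟨u, hu, w, hw, huw, ?_⟩
  intro p hp
  by_contra hcon
  push Not at hcon
  obtain ⟨c0, c1, c2, c3⟩ := hcon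
  -- the projection
  have proj : ∀ p ∈ P, ∃ z ∈ P, z = p + (B p w • u + B p u • w) ∧ B u z = 0 ∧ B w z = 0 := by
    intro p hp
    refine ⟨_, P.add_mem hp (P.add_mem (P.smul_mem _ hu) (P.smul_mem _ hw)), rfl, ?_, ?_⟩
    · rw [map_add, map_add, map_smul, map_smul, B_self, huw, B_comm u p, smul_zero, zero_add, smul_eq_mul, mul_one]
      exact two_self _
    · rw [map_add, map_add, map_smul, map_smul, B_self, hwu, B_comm w p, smul_zero, add_zero, smul_eq_mul, mul_one]
      exact two_self _
  obtain ⟨z, hz, ez, z1, z2⟩ := proj p hp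
  have hz0 : z ≠ 0 := by
    intro h0
    rw [h0] at ez
    have e1 : p = B p w • u + B p u • w := eq_of_add_eq_zero' ez.symm
    rcases zmod_cases (B p w) with h | h <;> rcases zmod_cases (B p u) with h' | h' <;> rw [h, h'] at e1
    · exact c0 (by rw [e1, zero_smul, zero_smul, add_zero])
    · exact c2 (by rw [e1, zero_smul, one_smul, zero_add])
    · exact c1 (by rw [e1, zero_smul, one_smul, add_zero])
    · exact c3 (by rw [e1, one_smul, one_smul])
  obtain ⟨q, hq, hqz⟩ := key z hz hz0
  obtain ⟨t, ht, et, t1, t2⟩ := proj q hq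
  have htz : B t z = 1 := by
    rw [et, map_add, map_add, map_smul, map_smul, LinearMap.add_apply, LinearMap.add_apply, LinearMap.smul_apply,
      LinearMap.smul_apply, z1, z2, smul_zero, smul_zero, add_zero, add_zero]
    exact hqz
  have hzt : B z t = 1 := by rw [B_comm]; exact htz
  have hli : LinearIndependent (ZMod 2) (![⟨u, hu⟩, ⟨w, hw⟩, ⟨z, hz⟩, ⟨t, ht⟩] : Fin 4 → P) := by
    rw [Fintype.linearIndependent_iff]
    intro g hg
    rw [Fin.sum_univ_four] at hg
    have e1 : g 0 • u + g 1 • w + g 2 • z + g 3 • t = 0 := by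
      have := congrArg Subtype.val hg
      exact this
    have b1 := congrArg (B w) e1
    have b2 := congrArg (B u) e1
    have b3 := congrArg (B t) e1
    have b4 := congrArg (B z) e1
    rw [map_add, map_add, map_add, map_smul, map_smul, map_smul, map_smul, map_zero] at b1 b2 b3 b4
    rw [hwu, B_self, z2, t2] at b1
    rw [huw, B_self, z1, t1] at b2
    rw [B_comm t u, B_comm t w, t1, t2, B_self, htz] at b3
    rw [B_comm z u, B_comm z w, z1, z2, B_self, hzt] at b4
    simp only [smul_eq_mul, mul_one, mul_zero, add_zero, zero_add] at b1 b2 b3 b4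
    intro i
    fin_cases i
    · exact b1
    · exact b2
    · exact b3
    · exact b4
  have h4 := hli.fintype_card_le_finrank
  rw [Fintype.card_fin] at h4
  omega

/-- an invariant plane -/
theorem fix_of_plane {M : Subgroup Γ} {P : Submodule (ZMod 2) V} (hinv : Inv M P) (hP : P ≠ ⊥)
    (hnd : ∀ p ∈ P, (∀ q ∈ P, B q p = 0) → p = 0) (hr : finrank (ZMod 2) P ≤ 3) : Fix1 M ∨ Fix3 M := by
  obtain ⟨u, hu, w, hw, huw, hall⟩ := exists_plane hP hnd hr
  have hQ : Q6 (u + w) = Q6 u + Q6 w + 1 := by rw [Q_add, huw]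
  have one : ∀ v ∈ P, Q6 v = 1 → (∀ p ∈ P, Q6 p = 1 → p = v) → Fix1 M := by
    intro v hv h1 h2
    refine ⟨v, ?_, fun g hg => h2 _ (hinv g hg v hv) ((Q_smul g v).trans h1)⟩
    intro h0
    rw [h0, Q_zero] at h1
    exact absurd h1 (by decide)
  have h01 : (0 : ZMod 2) ≠ 1 := by decide
  rcases zmod_cases (Q6 u) with hu1 | hu1 <;> rcases zmod_cases (Q6 w) with hw1 | hw1
  · left
    apply one (u + w) (P.add_mem hu hw) (by rw [hQ, hu1, hw1]; decide)
    intro p hp hp1
    rcases hall p hp with rfl | rfl | rfl | rfl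
    · rw [Q_zero] at hp1
      exact absurd hp1 h01
    · rw [hu1] at hp1
      exact absurd hp1 h01
    · rw [hw1] at hp1
      exact absurd hp1 h01
    · rfl
  · left
    apply one w hw hw1
    intro p hp hp1
    rcases hall p hp with rfl | rfl | rfl | rfl
    · rw [Q_zero] at hp1
      exact absurd hp1 h01
    · rw [hu1] at hp1
      exact absurd hp1 h01
    · rfl
    · rw [hQ, hu1, hw1] at hp1
      exact absurd hp1 (by decide)
  · left
    apply one u hu hu1
    intro p hp hp1
    rcases hall p hp with rfl | rfl | rfl | rfl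
    · rw [Q_zero] at hp1
      exact absurd hp1 h01
    · rfl
    · rw [hw1] at hp1
      exact absurd hp1 h01
    · rw [hQ, hu1, hw1] at hp1
      exact absurd hp1 (by decide)
  · right
    have hm : MP u w := ⟨hu1, hw1, huw⟩
    refine ⟨u, w, hm, ?_⟩
    rintro g hg v ⟨h1, h2⟩
    refine ⟨(Q_smul g v).trans h1, ?_⟩
    rcases h2 with h2 | h2
    · left
      have hv : v ∈ P := by
        rcases h2 with rfl | rfl | rfl
        · exact hu
        · exact hw
        · exact P.add_mem hu hw
      rcases hall _ (hinv g hg v hv) with h3 | h3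
      · exfalso
        have h4 : Q6 (g • v) = 1 := by rw [Q_smul]; exact h1
        rw [h3, Q_zero] at h4
        exact h01 h4
      · exact h3
    · right
      have h3 : ∀ p ∈ P, B p v = 0 := by
        intro p hp
        rcases hall p hp with rfl | rfl | rfl | rfl
        · rw [map_zero]
          rfl
        · exact h2.1
        · exact h2.2
        · rw [map_add, LinearMap.add_apply, h2.1, h2.2, add_zero]
      have h4 : ∀ p ∈ P, B p (g • v) = 0 := by
        intro p hp
        have h5 := h3 _ (hinv g⁻¹ (M.inv_mem hg) p hp)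
        rw [← B_smul g, ← mul_smul, mul_inv_cancel, one_smul] at h5
        exact h5
      exact ⟨h4 u hu, h4 w hw⟩

/-- **Reducible subgroups.** -/
theorem fix_of_not_irr {M : Subgroup Γ} (h : ¬ Irr M) : Fix1 M ∨ Fix2 M ∨ Fix3 M := by
  unfold Irr at h
  push Not at h
  obtain ⟨W, hW, hWb, hWt⟩ := h
  by_cases hU : ∃ u ∈ W, u ≠ 0 ∧ ∀ w ∈ W, B w u = 0
  · obtain ⟨u, hu, hu0, hu1⟩ := hU
    have hUinv := hW.inf hW.orth
    set U := W ⊓ B.orthogonal W with hUdef
    have hBU : ∀ x ∈ U, ∀ y ∈ U, B x y = 0 := fun x hx y hy => mem_orth.1 hy.2 x hx.1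
    have huU : u ∈ U := ⟨hu, hu1⟩
    by_cases hs : ∃ s ∈ U, s ≠ 0 ∧ Q6 s = 0
    · obtain ⟨s, hsU, hs0, hs1⟩ := hs
      have hsm : ∀ g : Γ, ∀ x : V, x ≠ 0 → g • x ≠ 0 := by
        intro g x hx h0
        apply hx
        have h2 : g⁻¹ • g • x = 0 := by rw [h0, smul_zero]
        rwa [← mul_smul, inv_mul_cancel, one_smul] at h2
      by_cases ht : ∃ t ∈ U, t ≠ 0 ∧ Q6 t = 0 ∧ s ≠ t
      · right
        left
        obtain ⟨t, htU, ht0, ht1, hst⟩ := ht
        refine ⟨s, t, ⟨hs1, ht1, hBU s hsU t htU, hs0, ht0, hst⟩, ?_⟩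
        intro g hg
        have h2 : ∀ x ∈ U, x ≠ 0 → Q6 x = 0 → InP s t (g • x) := by
          intro x hx hx0 hx1
          have h3 := hUinv g hg x hx
          rcases ts_two hs1 hs0 ht1 ht0 hst (hBU s hsU t htU) (z := g • x) (by rw [Q_smul]; exact hx1)
            (hBU s hsU _ h3) (hBU t htU _ h3) with h4 | h4
          · exact absurd h4 (hsm g x hx0)
          · exact h4
        exact ⟨h2 s hsU hs0 hs1, h2 t htU ht0 ht1⟩
      · left
        push Not at ht
        exact ⟨s, hs0, fun g hg => (ht _ (hUinv g hg s hsU) (hsm g s hs0) (by rw [Q_smul]; exact hs1)).symm⟩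
    · left
      push Not at hs
      refine ⟨u, hu0, fun g hg => ?_⟩
      have h2 := hUinv g hg u huU
      by_contra h3
      apply hs (u + g • u) (U.add_mem huU h2)
      · intro h4
        exact h3 (eq_of_add_eq_zero' h4).symm
      · rw [Q_add, Q_smul, hBU u huU _ h2, add_zero]
        exact two_self _
  · push Not at hU
    have hnd : ∀ p ∈ W, (∀ q ∈ W, B q p = 0) → p = 0 := by
      intro p hp h2
      by_contra h3
      obtain ⟨w, hw, h4⟩ := hU p hp h3
      exact h4 (h2 w hw)
    have hor : Fix1 M ∨ Fix3 M := by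
      rcases Nat.lt_or_ge 3 (finrank (ZMod 2) W) with h3 | h3
      · refine fix_of_plane hW.orth ?_ ?_ (by rw [finrank_orth]; omega)
        · intro h4
          apply hWt
          rw [← orth_orth W, h4]
          ext v
          constructor
          · intro _
            exact Submodule.mem_top
          · intro _ w hw
            rw [Submodule.mem_bot] at hw
            rw [hw]
            change B 0 v = 0
            rw [map_zero]
            rfl
        · intro p hp h4
          apply hnd p
          · rw [← orth_orth W]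
            exact h4
          · exact hp
      · exact fix_of_plane hW hWb hnd h3
    tauto

end Cfsg.Agent.H104.EP
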