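import Cfsg.Agent.H104.EP.Count

/-!
# Subgroups of `O₆⁻(2)` (helper104): the structure theorem and the list of the stabilisers
-/

set_option autoImplicit false

namespace Cfsg.Agent.H104.EP

open Subgroup Cfsg Cfsg.Agent.H781.U42Num Cfsg.Agent.H781.U42Gam Cfsg.Agent.H845.AutUFour
open scoped Pointwise

set_option maxHeartbeats 400000

theorem exists_sylow5 {H : Subgroup Γ} (hc : Nat.card H = 5) : ∃ P : Sylow 5 Γ, (P : Subgroup Γ) = H := by
  have hfin : Finite Γ := Nat.finite_of_card_ne_zero (by rw [card_isometry]; norm_num)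
  have hp : Fact (Nat.Prime 5) := ⟨by norm_num⟩
  have h1 : IsPGroup 5 H := IsPGroup.of_card (n := 1) (by rw [hc, pow_one])
  obtain ⟨P, hP⟩ := h1.exists_le_sylow
  refine ⟨P, ?_⟩
  symm
  apply Subgroup.eq_of_le_of_card_ge hP
  obtain ⟨k, hk⟩ := IsPGroup.iff_card.1 P.isPGroup'
  have h3 : Nat.card P ∣ 51840 := by
    rw [← card_isometry]
    exact card_subgroup_dvd_card (P : Subgroup Γ)
  have h4 : Nat.card (P : Subgroup Γ) = 5 ^ k := hk
  rw [h4, hc]
  rw [hk] at h3
  rcases Nat.lt_or_ge k 2 with h5 | h5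
  · interval_cases k <;> norm_num
  · exfalso
    have h6 : 5 ^ 2 ∣ 51840 := (pow_dvd_pow 5 h5).trans h3
    norm_num at h6

/-- conjugates of irreducible groups are irreducible -/
theorem Irr.conj {M : Subgroup Γ} (h : Irr M) (g : Γ) : Irr (M.map (MulAut.conj g).toMonoidHom) := by
  intro W hW
  let W' : Submodule (ZMod 2) V := mkSub (fun v => g • v ∈ W) (by rw [smul_zero]; exact W.zero_mem)
    fun v w hv hw => by rw [smul_add]; exact W.add_mem hv hw
  have hmem : ∀ v, v ∈ W' ↔ g • v ∈ W := fun _ => Iff.rfl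
  have h1 : Inv M W' := by
    intro m hm v hv
    rw [hmem] at hv ⊢
    have h2 := hW (g * m * g⁻¹) ⟨m, hm, rfl⟩ _ hv
    have h3 : (g * m * g⁻¹) • g • v = g • m • v := by
      rw [← mul_smul, ← mul_smul, inv_mul_cancel_right]
    exact h3 ▸ h2
  have h4 : ∀ v : V, g • g⁻¹ • v = v := fun v => by rw [← mul_smul, mul_inv_cancel, one_smul]
  rcases h W' h1 with h2 | h2
  · left
    rw [Submodule.eq_bot_iff]
    intro v hv
    have h3 : g⁻¹ • v ∈ W' := (hmem _).2 ((h4 v).symm ▸ hv)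
    rw [h2, Submodule.mem_bot] at h3
    have h5 := h4 v
    rw [h3, smul_zero] at h5
    exact h5.symm
  · right
    rw [Submodule.eq_top_iff']
    intro v
    have h3 : g⁻¹ • v ∈ W' := by rw [h2]; exact Submodule.mem_top
    exact h4 v ▸ (hmem _).1 h3

/-- **The structure theorem.** -/
theorem fix_cases {M : Subgroup Γ} (h1 : M ≠ ⊥) (hO : ¬ Omega (ZMod 2) Q6 ≤ M) : Fix1 M ∨ Fix2 M ∨ Fix3 M ∨ Fix4 M := by
  have hfin : Finite Γ := Nat.finite_of_card_ne_zero (by rw [card_isometry]; norm_num)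
  by_cases hirr : Irr M
  · by_cases h5 : 5 ∣ Nat.card M
    · exfalso
      have hp : Fact (Nat.Prime 5) := ⟨by norm_num⟩
      obtain ⟨y, hy⟩ := exists_prime_orderOf_dvd_card' (G := M) 5 h5
      have hy' : orderOf (y : Γ) = 5 := by rw [Subgroup.orderOf_coe]; exact hy
      obtain ⟨P, hP⟩ := exists_sylow5 (H := zpowers (y : Γ)) (by rw [Nat.card_zpowers, hy'])
      obtain ⟨P', hP'⟩ := exists_sylow5 (H := zpowers yG) (by rw [Nat.card_zpowers, order_y])
      obtain ⟨g, hg⟩ := MulAction.exists_smul_eq Γ P P'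
      have h2 : yG ∈ M.map (MulAut.conj g).toMonoidHom := by
        have h3 : yG ∈ (P' : Subgroup Γ) := by rw [hP']; exact mem_zpowers _
        rw [← hg, Sylow.coe_subgroup_smul, hP] at h3
        have h4 : zpowers (y : Γ) ≤ M := by rw [zpowers_le]; exact y.2
        obtain ⟨z, hz, e⟩ := h3
        exact ⟨z, h4 hz, e⟩
      apply hO
      intro w hw
      have h3 := omega_le (hirr.conj g) h2 (show g * w * g⁻¹ ∈ Omega (ZMod 2) Q6 from
        (inferInstance : (Omega (ZMod 2) Q6).Normal).conj_mem w hw g)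
      obtain ⟨m, hm, e⟩ := h3
      have h4 : g * m * g⁻¹ = g * w * g⁻¹ := e
      have h5 : m = w := mul_left_cancel (mul_right_cancel h4)
      rw [← h5]
      exact hm
    · exact Or.inr (Or.inr (of_solvable hirr h5 h1))
  · have := fix_of_not_irr hirr
    tauto

/-! ### the stabilisers -/

/-- the stabiliser of a set of vectors -/
def StS (S : V → Prop) : Subgroup Γ where
  carrier := {g | ∀ v, S (g • v) ↔ S v}
  one_mem' v := by rw [one_smul]
  mul_mem' {g h} hg hh v := by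
    rw [mul_smul]
    exact (hg _).trans (hh v)
  inv_mem' {g} hg v := by
    have h1 := hg (g⁻¹ • v)
    rw [← mul_smul, mul_inv_cancel, one_smul] at h1
    exact h1.symm

theorem mem_StS {S : V → Prop} {g : Γ} : g ∈ StS S ↔ ∀ v, S (g • v) ↔ S v := Iff.rfl

theorem le_StS {M : Subgroup Γ} {S : V → Prop} (h : ∀ g ∈ M, ∀ v, S v → S (g • v)) : M ≤ StS S := by
  intro g hg v
  refine ⟨fun h1 => ?_, h g hg v⟩
  have h2 := h g⁻¹ (M.inv_mem hg) _ h1
  have h3 : g⁻¹ • g • v = v := by rw [← mul_smul, inv_mul_cancel, one_smul]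
  exact h3 ▸ h2

/-- the stabilisers of the structures -/
def Tset : Set (Subgroup Γ) :=
  {K | (∃ v : V, v ≠ 0 ∧ K = StS (fun w => w = v)) ∨ (∃ s t : V, TL s t ∧ K = StS (InP s t)) ∨
    (∃ u w : V, MP u w ∧ K = StS (Fr u w)) ∨ ∃ x : Γ, Fpf x ∧ K = normalizer (zpowers x : Set Γ)}

theorem TL.three_mem {s t : V} (_ : TL s t) {g : Γ} (h1 : InP s t (g • s)) (h2 : InP s t (g • t)) {v : V}
    (hv : InP s t v) (hst : s ≠ t) : InP s t (g • v) := by
  rcases hv with rfl | rfl | rfl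
  · exact h1
  · exact h2
  · have h3 : g • s ≠ g • t := fun e => hst (smul_inj e)
    have h4 : g • (s + t) = g • s + g • t := smul_add g s t
    have e1 : s + (s + t) = t := by rw [← add_assoc, add_self, zero_add]
    have e2 : t + (s + t) = s := by rw [add_comm s t, ← add_assoc, add_self, zero_add]
    have e3 : s + t + s = t := by rw [add_comm (s + t) s, e1]
    have e4 : s + t + t = s := by rw [add_comm (s + t) t, e2]
    rw [h4]
    generalize g • s = p at *
    generalize g • t = q at *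
    rcases h1 with rfl | rfl | rfl <;> rcases h2 with h2 | h2 | h2 <;> rw [h2] at h3 ⊢
    · exact absurd rfl h3
    · exact Or.inr (Or.inr rfl)
    · exact Or.inr (Or.inl e1)
    · exact Or.inr (Or.inr (add_comm _ _))
    · exact absurd rfl h3
    · exact Or.inl e2
    · exact Or.inr (Or.inl e3)
    · exact Or.inl e4
    · exact absurd rfl h3

/-- every proper subgroup is contained in one of the stabilisers -/
theorem exists_le_T {M : Subgroup Γ} (h1 : M ≠ ⊥) (hO : ¬ Omega (ZMod 2) Q6 ≤ M) : ∃ K ∈ Tset, M ≤ K := by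
  rcases fix_cases h1 hO with ⟨v, hv, h⟩ | ⟨s, t, hst, h⟩ | ⟨u, w, huw, h⟩ | ⟨x, hx, h⟩
  · refine ⟨_, Or.inl ⟨v, hv, rfl⟩, le_StS fun g hg w hw => ?_⟩
    rw [hw]
    exact h g hg
  · exact ⟨_, Or.inr (Or.inl ⟨s, t, hst, rfl⟩), le_StS fun g hg v hv =>
      hst.three_mem (h g hg).1 (h g hg).2 hv hst.st⟩
  · exact ⟨_, Or.inr (Or.inr (Or.inl ⟨u, w, huw, rfl⟩)), le_StS h⟩
  · refine ⟨_, Or.inr (Or.inr (Or.inr ⟨x, hx, rfl⟩)), ?_⟩
    have h2 : ∀ g ∈ M, ∀ y ∈ zpowers x, g * y * g⁻¹ ∈ zpowers x := by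
      intro g hg y hy
      obtain ⟨k, rfl⟩ := mem_zpowers_iff.1 hy
      rw [← conj_zpow]
      apply (zpowers x).zpow_mem
      rcases h g hg with e | e <;> rw [e]
      · exact mem_zpowers x
      · exact (zpowers x).mul_mem (mem_zpowers x) (mem_zpowers x)
    intro g hg
    rw [mem_normalizer_iff]
    intro y
    refine ⟨h2 g hg y, fun h3 => ?_⟩
    have h4 := h2 g⁻¹ (M.inv_mem hg) _ h3
    have h5 : g⁻¹ * (g * y * g⁻¹) * g⁻¹⁻¹ = y := by group
    rwa [h5] at h4

end Cfsg.Agent.H104.EP
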