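import Cfsg.Agent.H104.EP.Red
import Cfsg.Agent.H104.EP.Act

/-!
# Subgroups of `O₆⁻(2)` (helper104): irreducible subgroups with a normal 3-subgroup
-/

set_option autoImplicit false

namespace Cfsg.Agent.H104.EP

open Subgroup Cfsg Cfsg.Agent.H781.U42Num Cfsg.Agent.H781.U42Gam Cfsg.Agent.H845.AutUFour Matrix Module

set_option maxHeartbeats 400000

theorem eq_zero_of_B {p : V} (h : ∀ v, B v p = 0) : p = 0 := by
  have h1 : p ∈ B.orthogonal (⊤ : Submodule (ZMod 2) V) := fun v _ => h v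
  have h2 : finrank (ZMod 2) (B.orthogonal (⊤ : Submodule (ZMod 2) V)) = 0 := by
    rw [finrank_orth, finrank_top, finrank_V]
  rw [Submodule.finrank_eq_zero] at h2
  rw [h2] at h1
  exact (Submodule.mem_bot _).1 h1

/-- the vectors fixed by `X` -/
def CV (X : Subgroup Γ) : Submodule (ZMod 2) V :=
  mkSub (fun v => ∀ x ∈ X, x • v = v) (fun _ _ => smul_zero _) fun v w hv hw x hx => by
    rw [smul_add, hv x hx, hw x hx]

theorem mem_CV {X : Subgroup Γ} {v : V} : v ∈ CV X ↔ ∀ x ∈ X, x • v = v := Iff.rfl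

/-- the fixed space of a normal subgroup is invariant -/
theorem inv_CV {M X : Subgroup Γ} (hn : ∀ g ∈ M, ∀ x ∈ X, g * x * g⁻¹ ∈ X) : Inv M (CV X) := by
  intro g hg v hv x hx
  have h1 := hv _ (hn g⁻¹ (M.inv_mem hg) x hx)
  rw [inv_inv] at h1
  have h2 : x • g • v = g • ((g⁻¹ * x * g) • v) := by
    rw [← mul_smul, ← mul_smul, ← mul_assoc, ← mul_assoc, mul_inv_cancel, one_mul]
  rw [h2, h1]

/-- a nontrivial normal subgroup of an irreducible group has no fixed vectors -/
theorem no_fixed {M X : Subgroup Γ} (hirr : Irr M) (hn : ∀ g ∈ M, ∀ x ∈ X, g * x * g⁻¹ ∈ X) (hX : X ≠ ⊥) {v : V}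
    (hv : ∀ x ∈ X, x • v = v) : v = 0 := by
  rcases hirr _ (inv_CV hn) with h | h
  · have h1 : v ∈ CV X := hv
    rw [h] at h1
    exact (Submodule.mem_bot _).1 h1
  · exfalso
    apply hX
    rw [Subgroup.eq_bot_iff_forall]
    intro x hx
    apply eq_one_of_smul
    intro w
    have h1 : w ∈ CV X := by rw [h]; exact Submodule.mem_top
    exact h1 x hx

end Cfsg.Agent.H104.EP
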