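import Cfsg.Agent.H104.EP.Str

/-!
# Subgroups of `O₆⁻(2)` (helper104): at most 398 stabilisers, none contains `Ω`
-/

set_option autoImplicit false

namespace Cfsg.Agent.H104.EP

open Subgroup Cfsg Cfsg.Agent.H781.U42Num Cfsg.Agent.H781.U42Gam Cfsg.Agent.H845.AutUFour

set_option maxHeartbeats 400000

/-! ### counting -/

def c2 (p : Fin 64 × Fin 64) : Bool :=
  Bool.and (lt' p.1 p.2) (Bool.and (sg p.1) (Bool.and (sg p.2) (Bool.not (pol p.1 p.2))))

def c3 (p : Fin 64 × Fin 64) : Bool := pl p.1 p.2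

def flF {α : Type} [Fintype α] (c : α → Bool) : Finset α := Finset.univ.filter fun p => c p = true

theorem mem_flF {α : Type} [Fintype α] {c : α → Bool} {p : α} (h : c p = true) : p ∈ (flF c : Set α) :=
  Finset.mem_coe.2 (Finset.mem_filter.2 ⟨Finset.mem_univ _, h⟩)

set_option maxRecDepth 100000 in
theorem card_N2 : (flF c2).card = 135 := by decide +kernel

set_option maxRecDepth 100000 in
theorem card_N3 : (flF c3).card = 120 := by decide +kernel

theorem InP_comm (s t : V) : InP s t = InP t s := by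
  funext v
  apply propext
  exact (Sm.swap s t).1 v

theorem Fr_congr {u w u' w' : V} (h : Sm u w u' w') : Fr u w = Fr u' w' := by
  funext v
  apply propext
  exact and_congr_right fun _ => or_congr (h.1 v) (h.2 v)

theorem ncard_ne_zero : {v : V | v ≠ 0}.ncard = 63 := by
  have h : {v : V | v ≠ 0} = (Finset.univ.filter (fun v : V => v ≠ 0) : Finset V) := by
    ext v
    simp
  rw [h, Set.ncard_coe_finset]
  decide +kernel

set_option maxRecDepth 100000 in
theorem ncard_Tset : Tset.ncard ≤ 398 := by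
  have hfin : Finite Γ := Nat.finite_of_card_ne_zero (by rw [card_isometry]; norm_num)
  have hsub : Tset ⊆ ((fun v : V => StS (fun w => w = v)) '' {v | v ≠ 0} ∪
      (fun p : Fin 64 × Fin 64 => StS (InP (toV p.1) (toV p.2))) '' (flF c2 : Set (Fin 64 × Fin 64))) ∪
      ((fun p : Fin 64 × Fin 64 => StS (Fr (toV p.1) (toV p.2))) '' (flF c3 : Set (Fin 64 × Fin 64)) ∪
      (fun x : Γ => normalizer (zpowers x : Set Γ)) '' {x | Fpf x}) := by
    rintro K (⟨v, hv, rfl⟩ | ⟨s, t, h, rfl⟩ | ⟨u, w, h, rfl⟩ | ⟨x, hx, rfl⟩)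
    · exact Or.inl (Or.inl ⟨v, hv, rfl⟩)
    · refine Or.inl (Or.inr ?_)
      have key : ∀ s t : V, TL s t → ofV s < ofV t → StS (InP s t) ∈
          (fun p : Fin 64 × Fin 64 => StS (InP (toV p.1) (toV p.2))) '' (flF c2 : Set (Fin 64 × Fin 64)) := by
        intro s t h hlt
        refine ⟨(⟨ofV s, ofV_lt s⟩, ⟨ofV t, ofV_lt t⟩), ?_, ?_⟩
        · refine mem_flF ?_
          exact band_intro (Nat.ble_eq_true_of_le hlt) (band_intro (sg_ofV h.s0 h.sn)
            (band_intro (sg_ofV h.t0 h.tn) (bnot_intro ((pol_ofV_false s t).2 h.b))))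
        · change StS (InP (toV (ofV s)) (toV (ofV t))) = _
          rw [toV_ofV, toV_ofV]
      rcases lt_or_gt_of_ne (fun e => h.st (ofV_inj e) : ofV s ≠ ofV t) with h1 | h1
      · exact key s t h h1
      · rw [InP_comm]
        exact key t s ⟨h.t0, h.s0, by rw [B_comm]; exact h.b, h.tn, h.sn, h.st.symm⟩ h1
    · refine Or.inr (Or.inl ?_)
      obtain ⟨u', w', h', hp, hs⟩ := h.exists_pl
      refine ⟨(⟨ofV u', ofV_lt u'⟩, ⟨ofV w', ofV_lt w'⟩), ?_, ?_⟩
      · exact mem_flF hp
      · change StS (Fr (toV (ofV u')) (toV (ofV w'))) = _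
        rw [toV_ofV, toV_ofV, Fr_congr hs]
    · exact Or.inr (Or.inr ⟨x, hx, rfl⟩)
  have h1 := Set.ncard_le_ncard hsub (Set.toFinite _)
  refine h1.trans ((Set.ncard_union_le _ _).trans ?_)
  have k1 := Set.ncard_union_le ((fun v : V => StS (fun w => w = v)) '' {v | v ≠ 0})
      ((fun p : Fin 64 × Fin 64 => StS (InP (toV p.1) (toV p.2))) '' (flF c2 : Set (Fin 64 × Fin 64)))
  have k2 := Set.ncard_union_le ((fun p : Fin 64 × Fin 64 => StS (Fr (toV p.1) (toV p.2))) '' (flF c3 : Set (Fin 64 × Fin 64)))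
      ((fun x : Γ => normalizer (zpowers x : Set Γ)) '' {x | Fpf x})
  have k3 := Set.ncard_image_le (f := fun v : V => StS (fun w => w = v)) (s := {v | v ≠ 0}) (Set.toFinite _)
  have k4 := Set.ncard_image_le (f := fun p : Fin 64 × Fin 64 => StS (InP (toV p.1) (toV p.2)))
    (s := (flF c2 : Set (Fin 64 × Fin 64))) (Set.toFinite _)
  have k5 := Set.ncard_image_le (f := fun p : Fin 64 × Fin 64 => StS (Fr (toV p.1) (toV p.2)))
    (s := (flF c3 : Set (Fin 64 × Fin 64))) (Set.toFinite _)
  have k6 := Set.ncard_image_le (f := fun x : Γ => normalizer (zpowers x : Set Γ)) (s := {x | Fpf x}) (Set.toFinite _)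
  rw [ncard_ne_zero] at k3
  rw [Set.ncard_coe_finset, card_N2] at k4
  rw [Set.ncard_coe_finset, card_N3] at k5
  have k7 := ncard_fpf
  omega

/-! ### `Ω` is not contained in the stabilisers -/

def in3 (s t v : ℕ) : Bool := Bool.or (Nat.beq v s) (Bool.or (Nat.beq v t) (Nat.beq v (Nat.xor s t)))

def chk3 : Bool := allB 64 fun s => im' (sg s) (allB 64 fun t => im' (Bool.and (sg t) (Bool.and (Bool.not (Nat.beq s t))
  (Bool.not (pol s t)))) (Bool.not (Bool.and (in3 s t (ap yl s)) (in3 s t (ap yl t)))))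

set_option maxRecDepth 100000 in
theorem chk3_true : chk3 = true := by decide +kernel

def fr (u w v : ℕ) : Bool := Bool.and (qf v) (Bool.or (in3 u w v) (pp u w v))

def chk4 : Bool := allB 64 fun u => im' (qf u) (allB 64 fun w => im' (pl u w)
  (Bool.not (allB 64 fun v => im' (fr u w v) (fr u w (ap yl v)))))

set_option maxRecDepth 100000 in
theorem chk4_true : chk4 = true := by decide +kernel

theorem in3_iff (s t v : V) : in3 (ofV s) (ofV t) (ofV v) = true ↔ InP s t v := by
  have h : ∀ m n : ℕ, Nat.beq m n = true ↔ m = n := fun m n => ⟨Nat.eq_of_beq_eq_true, fun h => by rw [h]; exact Nat.beq_refl n⟩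
  have h1 : ∀ a b : Bool, Bool.or a b = true ↔ a = true ∨ b = true := by decide
  rw [in3, h1, h1, h, h, h, ← ofV_add]
  exact or_congr ⟨ofV_inj, congrArg _⟩ (or_congr ⟨ofV_inj, congrArg _⟩ ⟨ofV_inj, congrArg _⟩)

theorem pp_iff (u w v : V) : pp (ofV u) (ofV w) (ofV v) = true ↔ Pp u w v := by
  refine ⟨fun h => ?_, pp_of⟩
  have h1 : ∀ a b : Bool, Bool.and (Bool.not a) (Bool.not b) = true → a = false ∧ b = false := by decide
  obtain ⟨h2, h3⟩ := h1 _ _ h
  exact ⟨(pol_ofV_false u v).1 h2, (pol_ofV_false w v).1 h3⟩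

theorem fr_iff (u w v : V) : fr (ofV u) (ofV w) (ofV v) = true ↔ Fr u w v := by
  have h1 : ∀ a b : Bool, Bool.or a b = true ↔ a = true ∨ b = true := by decide
  have h2 : ∀ a b : Bool, Bool.and a b = true ↔ a = true ∧ b = true := by decide
  rw [fr, h2, h1, qf_ofV, in3_iff, pp_iff]
  exact Iff.rfl

theorem ofV_y (v : V) : ofV (yG • v) = ap yl (ofV v) := by
  rw [← a_yG _ (ofV_lt v), a, toV_ofV]
  rfl

theorem fixV_y {v : V} (h : yG • v = v) : ofV v = 0 ∨ ofV v = 12 ∨ ofV v = 39 ∨ ofV v = 43 := by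
  apply fix_y _ (ofV_lt v)
  rw [← ofV_y, h]

theorem z_moves : a zG 12 ≠ 12 ∧ a zG 39 ≠ 39 ∧ a zG 43 ≠ 43 := by decide +kernel

theorem Fpf.cube {x : Γ} (h : Fpf x) : x * x * x = 1 := by
  apply eq_one_of_smul
  intro v
  have h1 := h v
  have h2 := h (x • v)
  have h3 : v + (x • v + x • x • v) = 0 := by rw [← add_assoc]; exact h1
  have h4 : x • x • x • v + (x • v + x • x • v) = 0 := by
    rw [add_comm]
    exact h2
  have h5 : x • x • x • v = v := (eq_of_add_eq_zero' h4).trans (eq_of_add_eq_zero' h3).symm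
  have h6 : (x * x * x) • v = x • x • x • v := by rw [mul_assoc, mul_smul, mul_smul]
  exact h6.trans h5

theorem mem_zpowers_cube {x y : Γ} (h : x * x * x = 1) (hy : y ∈ zpowers x) : y = 1 ∨ y = x ∨ y = x * x := by
  obtain ⟨k, rfl⟩ := mem_zpowers_iff.1 hy
  have h3 : x ^ (3 : ℤ) = 1 := by
    have : x ^ (3 : ℤ) = x * x * x := by
      rw [show (3 : ℤ) = ((3 : ℕ) : ℤ) from rfl, zpow_natCast, pow_succ, pow_two]
    rw [this, h]
  have h4 : x ^ k = x ^ (k % 3) := by
    conv_lhs => rw [← Int.emod_add_mul_ediv k 3]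
    rw [zpow_add, zpow_mul, h3, one_zpow, mul_one]
  rw [h4]
  have h5 : k % 3 = 0 ∨ k % 3 = 1 ∨ k % 3 = 2 := by omega
  rcases h5 with h5 | h5 | h5 <;> rw [h5]
  · left
    exact zpow_zero x
  · right; left
    exact zpow_one x
  · right; right
    exact zpow_two x

theorem comm_y {x : Γ} (h : x * x * x = 1) (hx1 : x ≠ 1) (hn : yG * x * yG⁻¹ ∈ zpowers x) : yG * x = x * yG := by
  rcases mem_zpowers_cube h hn with e | e | e
  · exfalso
    apply hx1
    rw [mul_inv_eq_one] at e
    exact mul_left_cancel (e.trans (mul_one yG).symm)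
  · exact mul_inv_eq_iff_eq_mul.1 e
  · have e1 : yG * x = x * x * yG := mul_inv_eq_iff_eq_mul.1 e
    have e2 : Commute (yG * yG) x := by
      change yG * yG * x = x * (yG * yG)
      calc yG * yG * x = yG * (yG * x) := mul_assoc _ _ _
        _ = yG * (x * x * yG) := by rw [e1]
        _ = (yG * x) * (x * yG) := by simp only [mul_assoc]
        _ = x * x * yG * (x * yG) := by rw [e1]
        _ = x * x * (yG * x) * yG := by simp only [mul_assoc]
        _ = x * x * (x * x * yG) * yG := by rw [e1]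
        _ = x * (x * x * x) * (yG * yG) := by simp only [mul_assoc]
        _ = x * (yG * yG) := by rw [h, mul_one]
    have e3 : (yG * yG) * (yG * yG) * (yG * yG) = yG := by
      calc (yG * yG) * (yG * yG) * (yG * yG) = (yG * (yG * (yG * (yG * yG)))) * yG := by simp only [mul_assoc]
        _ = yG := by rw [yG5, one_mul]
    have e4 := (e2.mul_left e2).mul_left e2
    rw [e3] at e4
    exact e4

/-- **`Ω` is not contained in a stabiliser.** -/
theorem not_omega_le {K : Subgroup Γ} (hK : K ∈ Tset) : ¬ Omega (ZMod 2) Q6 ≤ K := by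
  intro hO
  have hy := hO yG_mem
  rcases hK with ⟨v, hv, rfl⟩ | ⟨s, t, h, rfl⟩ | ⟨u, w, h, rfl⟩ | ⟨x, hx, rfl⟩
  · have h1 : yG • v = v := (hy v).2 rfl
    have h2 : zG • v = v := (hO z_mem v).2 rfl
    have h3 : a zG (ofV v) = ofV v := by
      rw [a, toV_ofV]
      exact congrArg ofV h2
    obtain ⟨z1, z2, z3⟩ := z_moves
    rcases fixV_y h1 with e | e | e | e <;> rw [e] at h3
    · exact hv (ofV_inj (e.trans ofV_zero.symm))
    · exact z1 h3
    · exact z2 h3
    · exact z3 h3
  · have h1 : InP s t (yG • s) := (hy s).2 (Or.inl rfl)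
    have h2 : InP s t (yG • t) := (hy t).2 (Or.inr (Or.inl rfl))
    have k1 := im'_spec (allB_spec chk3_true (ofV_lt s)) (sg_ofV h.s0 h.sn)
    have k2 := im'_spec (allB_spec k1 (ofV_lt t)) (band_intro (sg_ofV h.t0 h.tn) (band_intro
      (bnot_beq fun h3 => h.st (ofV_inj h3)) (bnot_intro ((pol_ofV_false s t).2 h.b))))
    rw [← ofV_y, ← ofV_y, (in3_iff s t _).2 h1, (in3_iff s t _).2 h2] at k2
    exact absurd k2 (by decide)
  · obtain ⟨u', w', h', hp, hs⟩ := h.exists_pl
    rw [Fr_congr hs] at hy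
    have k1 := im'_spec (allB_spec chk4_true (ofV_lt u')) (qf_u_of_pl hp)
    have k2 := im'_spec (allB_spec k1 (ofV_lt w')) hp
    have k3 : (allB 64 fun v => im' (fr (ofV u') (ofV w') v) (fr (ofV u') (ofV w') (ap yl v))) = true := by
      have hall : ∀ (n : ℕ) (f : ℕ → Bool), (∀ i < n, f i = true) → allB n f = true := by
        intro n f h
        induction n with
        | zero => rfl
        | succ n ih =>
          rw [allB, Bool.and_eq_true]
          exact ⟨h n (Nat.lt_succ_self n), ih fun i hi => h i (hi.trans (Nat.lt_succ_self n))⟩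
      have him : ∀ a b : Bool, (a = true → b = true) → im' a b = true := by decide
      apply hall
      intro n hn
      apply him
      intro h1
      have h2 : ofV (toV n) = n := ofV_toV n hn
      rw [← h2] at h1 ⊢
      rw [← ofV_y]
      exact (fr_iff u' w' _).2 ((hy _).2 ((fr_iff u' w' _).1 h1))
    rw [k3] at k2
    exact absurd k2 (by decide)
  · have hx3 := hx.cube
    obtain ⟨v, hv⟩ : ∃ v : V, v ≠ 0 ∧ yG • v = v ∧ Q6 v = 1 := by
      refine ⟨toV 12, ?_, ?_, ?_⟩
      · intro h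
        have h1 := congrArg ofV h
        rw [ofV_toV 12 (by norm_num), ofV_zero] at h1
        exact absurd h1 (by norm_num)
      · apply ofV_inj
        rw [ofV_y, ofV_toV 12 (by norm_num)]
        decide +kernel
      · exact (qf_spec 12 (by norm_num)).1 (by decide +kernel)
    obtain ⟨hv0, hvy, hvQ⟩ := hv
    have hx1 : x ≠ 1 := by
      rintro rfl
      have h1 := hx v
      have h2 : (1 : Γ) • v = v := one_smul Γ v
      rw [h2, h2, add_self, zero_add] at h1
      exact hv0 h1
    have hc := comm_y hx3 hx1 ((mem_normalizer_iff.1 hy x).1 (mem_zpowers x))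
    have h1 : yG • x • v = x • v := by
      rw [← mul_smul, hc, mul_smul, hvy]
    have huniq : ∀ w : V, yG • w = w → Q6 w = 1 → ofV w = 12 := by
      intro w hw hwQ
      have h2 := (qf_ofV w).2 hwQ
      rcases fixV_y hw with e | e | e | e
      · rw [e] at h2
        exact absurd h2 (by decide +kernel)
      · exact e
      · rw [e] at h2
        exact absurd h2 (by decide +kernel)
      · rw [e] at h2
        exact absurd h2 (by decide +kernel)
    have h2 : x • v = v := ofV_inj ((huniq _ h1 ((Q_smul x v).trans hvQ)).trans (huniq v hvy hvQ).symm)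
    have h3 := hx v
    rw [h2, h2, add_self, zero_add] at h3
    exact hv0 h3

end Cfsg.Agent.H104.EP
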