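import Cfsg.Agent.H104.EP.Tset
import Cfsg.Agent.H419.EP.Soc
import Cfsg.Agent.S0283

/-!
# S3499, layer IV (helper104, task 5944): the stabilisers `A` with socle `U₄(2)`

`index_le_u42` : the index of an extremely primitive stabiliser with socle `U₄(2)` is at most `398² ≤ 2¹⁸`.
-/

set_option autoImplicit false

namespace Cfsg.Agent.H104.EP

open Subgroup Cfsg Cfsg.Agent.H284 Cfsg.Agent.H419.EP Cfsg.Agent.H845.AutUFour Cfsg.Agent.H781.U42Gam

set_option maxHeartbeats 400000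

variable {Q : Type*} [Group Q] {A : Subgroup Q} {Γq : Subgroup (MulAut Q)}

/-- the socle is invariant -/
theorem soc_inv [Finite Q] (h : EPT A Γq) {N : Subgroup Q} (hNA : N ≤ A) (hNn : ∀ a ∈ A, ∀ n ∈ N, a * n * a⁻¹ ∈ N)
    (hC : ∀ a ∈ A, (∀ n ∈ N, a * n = n * a) → a = 1) (hs : IsSimpleGroup N) {σ : MulAut Q} (hσ : σ ∈ Γq) {n : Q}
    (hn : n ∈ N) : σ n ∈ N := by
  set N' := N.map σ.toMonoidHom with hN'
  have hN'A : N' ≤ A := by
    rintro _ ⟨n, hn, rfl⟩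
    exact (h.inv σ hσ n).2 (hNA hn)
  have hN'n : ∀ a ∈ A, ∀ n ∈ N', a * n * a⁻¹ ∈ N' := by
    rintro a ha _ ⟨n, hn, rfl⟩
    have h1 : σ⁻¹ a ∈ A := (h.inv _ (Γq.inv_mem hσ) a).2 ha
    refine ⟨σ⁻¹ a * n * (σ⁻¹ a)⁻¹, hNn _ h1 n hn, ?_⟩
    change σ (σ⁻¹ a * n * (σ⁻¹ a)⁻¹) = a * σ n * a⁻¹
    rw [map_mul, map_mul, map_inv, MulAut.apply_inv_self]
  have hnorm : ((N' ⊓ N).subgroupOf N).Normal := ⟨by
    rintro ⟨n, hn'⟩ hn ⟨a, ha⟩
    exact ⟨hN'n a (hNA ha) n hn.1, N.mul_mem (N.mul_mem ha hn') (N.inv_mem ha)⟩⟩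
  rcases hnorm.eq_bot_or_eq_top with h4 | h4
  · exfalso
    have h5 : ∀ k ∈ N', k = 1 := by
      intro k hk
      apply hC k (hN'A hk)
      intro n hn
      have h5 : k * n * k⁻¹ * n⁻¹ ∈ N' ⊓ N := by
        refine ⟨?_, N.mul_mem (hNn k (hN'A hk) n hn) (N.inv_mem hn)⟩
        have e : k * n * k⁻¹ * n⁻¹ = k * (n * k⁻¹ * n⁻¹) := by group
        rw [e]
        exact N'.mul_mem hk (hN'n n (hNA hn) _ (N'.inv_mem hk))
      have h6 : (⟨k * n * k⁻¹ * n⁻¹, h5.2⟩ : N) ∈ (N' ⊓ N).subgroupOf N := h5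
      rw [h4, mem_bot] at h6
      have h7 : k * n * k⁻¹ * n⁻¹ = 1 := congrArg Subtype.val h6
      rw [mul_inv_eq_one, mul_inv_eq_iff_eq_mul] at h7
      exact h7
    obtain ⟨x, hx⟩ := exists_ne (1 : N)
    apply hx
    apply Subtype.ext
    apply σ.injective
    change σ x = σ 1
    rw [map_one]
    exact h5 _ ⟨x, x.2, rfl⟩
  · have h5 : N ≤ N' := by
      intro x hx
      have h6 : (⟨x, hx⟩ : N) ∈ (N' ⊓ N).subgroupOf N := by rw [h4]; exact mem_top _
      exact (mem_inf.1 h6).1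
    have h6 : N = N' := by
      apply Subgroup.eq_of_le_of_card_ge h5
      rw [hN']
      exact (Nat.card_congr (N.equivMapOfInjective _ σ.injective).symm.toEquiv).le
    rw [h6]
    exact ⟨n, hn, rfl⟩

/-- **Layer IV, `U₄(2)`.** -/
theorem index_le_u42 [Finite Q] (h : EPT A Γq) {K : Type*} [Field K] [Fintype K] (hK : Fintype.card K = 4)
    (hsoc : HasSoc A (PSU 4 K 2)) : A.index ≤ 2 ^ 18 := by
  obtain ⟨N, hNA, hNn, hC, ⟨e1⟩⟩ := hsoc
  obtain ⟨e2⟩ := H781.U42Act.exists_omega hK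
  have hsimp : IsSimpleGroup (PSU 4 K 2) := Cfsg.Agent.S0283.result (q := 2) (by rw [hK]; norm_num) 4 (by norm_num) (by norm_num)
  have hs : IsSimpleGroup N := e1.isSimpleGroup
  have hinv : ∀ σ ∈ Γq, ∀ n ∈ N, σ n ∈ N := fun σ hσ n hn => soc_inv h hNA hNn hC hs hσ hn
  -- conjugations
  let c : A →* Γq := (MulAut.conj.comp A.subtype).codRestrict Γq fun a => (h.conj a).2 a.2
  have hc : ∀ a : A, ((c a : Γq) : MulAut Q) = MulAut.conj (a : Q) := fun a => rfl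
  have hcinj : Function.Injective c := by
    rw [injective_iff_map_eq_one]
    intro a ha
    apply Subtype.ext
    apply hC a a.2
    intro n _
    have h1 : MulAut.conj (a : Q) = 1 := by rw [← hc, ha]; rfl
    have h2 := DFunLike.congr_fun h1 n
    rw [MulAut.conj_apply, MulAut.one_apply, mul_inv_eq_iff_eq_mul] at h2
    exact h2
  let A' : Subgroup Γq := (N.subgroupOf A).map c
  have hA' : A'.Normal := by
    constructor
    rintro _ ⟨n, hn, rfl⟩ σ
    have hσn : (σ : MulAut Q) n ∈ N := hinv σ σ.2 n hn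
    refine ⟨⟨(σ : MulAut Q) n, hNA hσn⟩, hσn, ?_⟩
    apply Subtype.ext
    change MulAut.conj ((σ : MulAut Q) n) = (σ : MulAut Q) * MulAut.conj (n : Q) * (σ : MulAut Q)⁻¹
    rw [aut_conj]
  let e' : A' ≃* ↥(Omega (ZMod 2) Q6) :=
    (((N.subgroupOf A).equivMapOfInjective c hcinj).symm.trans (Subgroup.subgroupOfEquivOfLe hNA)).trans (e1.trans e2)
  obtain ⟨φ, -, hφ2, hφ3⟩ := H781.U42Act.exists_phi hA' e'
  have hφinj : Function.Injective φ := by
    rw [injective_iff_map_eq_one]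
    intro σ hσ
    have h1 := (hφ3 σ).1 hσ
    rw [mem_centralizer_iff] at h1
    have h2 : ∀ n ∈ N, (σ : MulAut Q) n = n := by
      intro n hn
      have h3 := h1 (c ⟨n, hNA hn⟩) ⟨⟨n, hNA hn⟩, hn, rfl⟩
      have h4 : MulAut.conj n * (σ : MulAut Q) = (σ : MulAut Q) * MulAut.conj n := congrArg Subtype.val h3
      have h5 : MulAut.conj ((σ : MulAut Q) n) = MulAut.conj n := by
        rw [← aut_conj, ← h4, mul_inv_cancel_right]
      have hσn : (σ : MulAut Q) n ∈ N := hinv σ σ.2 n hn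
      have h6 : c ⟨(σ : MulAut Q) n, hNA hσn⟩ = c ⟨n, hNA hn⟩ := Subtype.ext h5
      exact congrArg Subtype.val (hcinj h6)
    apply Subtype.ext
    apply h.cent σ σ.2
    intro a ha
    have ha' : (σ : MulAut Q) a ∈ A := (h.inv σ σ.2 a).2 ha
    have h3 : a⁻¹ * (σ : MulAut Q) a = 1 := by
      apply hC _ (A.mul_mem (A.inv_mem ha) ha')
      intro n hn
      have h4 := h2 _ (hNn a ha n hn)
      rw [map_mul, map_mul, map_inv, h2 n hn] at h4
      have h5 : (σ : MulAut Q) a * n = a * n * a⁻¹ * (σ : MulAut Q) a := by rw [← h4]; group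
      rw [mul_assoc, h5]
      group
    exact (inv_mul_eq_one.1 h3).symm
  have hrange : ∀ w ∈ Omega (ZMod 2) Q6, ∃ y : A', φ y = w := fun w hw =>
    ⟨e'.symm ⟨w, hw⟩, by rw [hφ2, e'.apply_symm_apply]⟩
  -- the point stabilisers
  let F : Subgroup Γ → Subgroup Q := fun K => ((K.comap φ).comap c).map A.subtype
  have hsub : {M : Subgroup Q | ∃ x, x ∉ A ∧ M = A ⊓ cj x A} ⊆ F '' Tset := by
    rintro _ ⟨x, hx, rfl⟩
    let G : Subgroup Γq :=
      { carrier := {σ | x⁻¹ * (σ : MulAut Q) x ∈ A}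
        one_mem' := by
          change x⁻¹ * x ∈ A
          rw [inv_mul_cancel]
          exact A.one_mem
        mul_mem' := by
          intro σ τ hσ hτ
          change x⁻¹ * (σ : MulAut Q) ((τ : MulAut Q) x) ∈ A
          have e : x⁻¹ * (σ : MulAut Q) ((τ : MulAut Q) x) =
              (x⁻¹ * (σ : MulAut Q) x) * (σ : MulAut Q) (x⁻¹ * (τ : MulAut Q) x) := by
            rw [map_mul, map_inv]
            group
          rw [e]
          exact A.mul_mem hσ ((h.inv _ σ.2 _).2 hτ)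
        inv_mem' := by
          intro σ hσ
          change x⁻¹ * ((σ : MulAut Q)⁻¹ : MulAut Q) x ∈ A
          have h3 := (h.inv _ (Γq.inv_mem σ.2) _).2 (A.inv_mem hσ)
          have e4 : ((σ : MulAut Q)⁻¹ : MulAut Q) (x⁻¹ * (σ : MulAut Q) x)⁻¹ = x⁻¹ * ((σ : MulAut Q)⁻¹ : MulAut Q) x := by
            rw [mul_inv_rev, map_mul, map_inv, MulAut.inv_apply_self, inv_inv]
          rwa [e4] at h3 }
    have hG : ∀ σ : Γq, σ ∈ G ↔ x⁻¹ * (σ : MulAut Q) x ∈ A := fun σ => Iff.rfl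
    have hGc : ∀ a : A, c a ∈ G ↔ (a : Q) ∈ cj x A := fun a => h.conj_stab a.2
    have h1 : G.map φ ≠ ⊥ := by
      intro e
      apply h.M0 x hx
      rw [Subgroup.eq_bot_iff_forall]
      intro a ha
      have h2 : c ⟨a, (mem_inf.1 ha).1⟩ ∈ G := (hGc _).2 (mem_inf.1 ha).2
      have h3 : φ (c ⟨a, (mem_inf.1 ha).1⟩) ∈ G.map φ := ⟨_, h2, rfl⟩
      rw [e, mem_bot] at h3
      have h4 : c ⟨a, (mem_inf.1 ha).1⟩ = 1 := hφinj (h3.trans (map_one φ).symm)
      have h5 := hcinj (h4.trans (map_one c).symm)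
      exact congrArg Subtype.val h5
    have hO : ¬ Omega (ZMod 2) Q6 ≤ G.map φ := by
      intro hO
      have h2 : N ≤ cj x A := by
        intro n hn
        have hn' : c ⟨n, hNA hn⟩ ∈ A' := ⟨⟨n, hNA hn⟩, hn, rfl⟩
        have h3 : φ (c ⟨n, hNA hn⟩) ∈ Omega (ZMod 2) Q6 := by
          have h4 := hφ2 ⟨_, hn'⟩
          change φ (c ⟨n, hNA hn⟩) = _ at h4
          rw [h4]
          exact (e' ⟨_, hn'⟩).2
        obtain ⟨σ, hσ, e⟩ := hO h3
        rw [hφinj e] at hσ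
        exact (hGc _).1 hσ
      have h3 := h.F1 x hx N hNA hinv h2
      obtain ⟨y, hy⟩ := exists_ne (1 : N)
      apply hy
      exact Subtype.ext (mem_bot.1 (h3.le y.2))
    obtain ⟨K, hKT, hGK⟩ := exists_le_T h1 hO
    refine ⟨K, hKT, ?_⟩
    have h2 := not_omega_le hKT
    have hL : ∀ σ : Γq, φ σ ∈ K → σ ∈ G := by
      rcases h.two x hx ((K.comap φ).map Γq.subtype) (by
          rintro _ ⟨σ, _, rfl⟩
          exact σ.2) (by
          intro σ hσ hσx
          exact ⟨⟨σ, hσ⟩, hGK ⟨⟨σ, hσ⟩, hσx, rfl⟩, rfl⟩) with h3 | h3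
      · exfalso
        apply h2
        intro w hw
        obtain ⟨y, hy⟩ := hrange w hw
        have h4 : ((y : Γq) : MulAut Q) ∈ (K.comap φ).map Γq.subtype := by
          rw [h3]
          exact (y : Γq).2
        obtain ⟨z, hz, e⟩ := h4
        have h5 : z = (y : Γq) := Subtype.ext e
        rw [h5] at hz
        rw [← hy]
        exact hz
      · intro σ hσ
        exact h3 _ ⟨σ, hσ, rfl⟩
    ext a
    constructor
    · rintro ⟨b, hb, rfl⟩
      exact ⟨b.2, (hGc b).1 (hL _ hb)⟩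
    · intro ha
      exact ⟨⟨a, (mem_inf.1 ha).1⟩, hGK ⟨_, (hGc ⟨a, (mem_inf.1 ha).1⟩).2 (mem_inf.1 ha).2, rfl⟩, rfl⟩
  have hfinG : Finite Γ := Nat.finite_of_card_ne_zero (by rw [card_isometry]; norm_num)
  have h1 := (Set.ncard_le_ncard hsub (Set.toFinite _)).trans ((Set.ncard_image_le (Set.toFinite _)).trans ncard_Tset)
  calc A.index ≤ _ := h.index_le
    _ ≤ 398 ^ 2 := Nat.pow_le_pow_left h1 2
    _ ≤ 2 ^ 18 := by norm_num

end Cfsg.Agent.H104.EP
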